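import Mathlib.CategoryTheory.Abelian.RightDerived
import Mathlib.CategoryTheory.Abelian.Injective.Ext
import Mathlib.CategoryTheory.Sites.ConstantSheaf
import Mathlib.CategoryTheory.Preadditive.Injective.Basic
import Mathlib.Algebra.Homology.QuasiIso
import Mathlib.Algebra.Category.Grp.Ulift
import Mathlib.CategoryTheory.Adjunction.Additive
import Mathlib.CategoryTheory.Preadditive.Injective.Preserves
import Mathlib.CategoryTheory.Sites.Abelian
import Mathlib.CategoryTheory.Abelian.GrothendieckAxioms.Sheaf
import Groth.Agent.GrothSS.ExtRD

/-! # Derived functors and exact functors; sections of injective resolutions -/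

set_option autoImplicit false
set_option linter.all false
set_option backward.isDefEq.respectTransparency false
set_option backward.defeqAttrib.useBackward true

noncomputable section

universe w v₁ v₂ v₃ u₁ u₂ u₃

open CategoryTheory CategoryTheory.Limits CategoryTheory.Abelian Opposite

namespace Groth.Agent.BigEt

variable {A : Type u₁} [Category.{v₁} A] [Abelian A]
  {B : Type u₂} [Category.{v₂} B] [Abelian B]
  {D : Type u₃} [Category.{v₃} D] [Abelian D]

section Exact

variable (F : A ⥤ B) [F.Additive] [PreservesFiniteLimits F] [PreservesFiniteColimits F]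

/-- The image of an injective resolution by an exact functor preserving injectives. -/
def mapRes [F.PreservesInjectiveObjects] {X : A} (R : InjectiveResolution X) :
    InjectiveResolution (F.obj X) where
  cocomplex := (F.mapHomologicalComplex (ComplexShape.up ℕ)).obj R.cocomplex
  injective n := F.injective_obj_of_injective (R.injective n)
  ι := (HomologicalComplex.singleMapHomologicalComplex F (ComplexShape.up ℕ) 0).inv.app X ≫
    (F.mapHomologicalComplex (ComplexShape.up ℕ)).map R.ι

/-- Exact functors commute with homology. -/
def mapHomologyIso (K : CochainComplex A ℕ) (n : ℕ) :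
    ((F.mapHomologicalComplex (ComplexShape.up ℕ)).obj K).homology n ≅ F.obj (K.homology n) :=
  (K.sc n).mapHomologyIso F

/-- Exact functors have no higher derived functors. -/
theorem isZero_rightDerived_of_exact [HasInjectiveResolutions A] (X : A) (n : ℕ) :
    IsZero ((F.rightDerived (n + 1)).obj X) :=
  (F.map_isZero ((injectiveResolution X).cocomplex_exactAt_succ n).isZero_homology).of_iso
    ((injectiveResolution X).isoRightDerivedObj F (n + 1) ≪≫ mapHomologyIso F _ _)

end Exact

variable [HasInjectiveResolutions A]

/-- Derived functors after composing with an exact functor. -/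
def rightDerivedCompExact (F : A ⥤ B) [F.Additive] (G : B ⥤ D) [G.Additive] [PreservesFiniteLimits G]
    [PreservesFiniteColimits G] (n : ℕ) (X : A) :
    ((F ⋙ G).rightDerived n).obj X ≅ G.obj ((F.rightDerived n).obj X) :=
  (injectiveResolution X).isoRightDerivedObj (F ⋙ G) n ≪≫
    mapHomologyIso G ((F.mapHomologicalComplex (ComplexShape.up ℕ)).obj (injectiveResolution X).cocomplex) n ≪≫
      G.mapIso ((injectiveResolution X).isoRightDerivedObj F n).symm

/-- Derived functors before composing with an exact functor preserving injectives. -/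
def rightDerivedExactComp [HasInjectiveResolutions B] (F : A ⥤ B) [F.Additive] [PreservesFiniteLimits F]
    [PreservesFiniteColimits F] [F.PreservesInjectiveObjects] (G : B ⥤ D) [G.Additive] (n : ℕ) (X : A) :
    ((F ⋙ G).rightDerived n).obj X ≅ (G.rightDerived n).obj (F.obj X) :=
  (injectiveResolution X).isoRightDerivedObj (F ⋙ G) n ≪≫
    ((mapRes F (injectiveResolution X)).isoRightDerivedObj G n).symm

/-- derived functors of isomorphic functors -/
def rightDerivedCongr {F G : A ⥤ B} [F.Additive] [G.Additive] (e : F ≅ G) (n : ℕ) :
    F.rightDerived n ≅ G.rightDerived n where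
  hom := NatTrans.rightDerived e.hom n
  inv := NatTrans.rightDerived e.inv n
  hom_inv_id := by rw [← NatTrans.rightDerived_comp, e.hom_inv_id, NatTrans.rightDerived_id]
  inv_hom_id := by rw [← NatTrans.rightDerived_comp, e.inv_hom_id, NatTrans.rightDerived_id]

end Groth.Agent.BigEt

namespace Groth.Agent.BigEt

universe v u

section Sections

variable {C : Type w} [Category.{v} C] {J : GrothendieckTopology C}
  [HasSheafify J AddCommGrpCat.{w}] {t : C} (ht : IsTerminal t)

/-- maps out of `ULift ℤ` are elements -/
def intHomEquiv (A : AddCommGrpCat.{w}) : (AddCommGrpCat.of (ULift.{w} ℤ) ⟶ A) ≃+ A where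
  toFun φ := φ.hom (ULift.up 1)
  invFun a := AddCommGrpCat.ofHom ((zmultiplesHom A a).comp (AddEquiv.ulift : ULift.{w} ℤ ≃+ ℤ).toAddMonoidHom)
  left_inv φ := by
    refine AddCommGrpCat.hom_ext (AddMonoidHom.ext fun ⟨k⟩ => ?_)
    show k • φ.hom (ULift.up 1) = φ.hom ⟨k⟩
    rw [← map_zsmul]
    exact congrArg φ.hom (ULift.ext _ _ (by simp))
  right_inv a := one_zsmul a
  map_add' _ _ := rfl

variable (J) in
/-- the constant sheaf `ℤ` -/
abbrev constZ : Sheaf J AddCommGrpCat.{w} :=
  (constantSheaf J AddCommGrpCat.{w}).obj (AddCommGrpCat.of (ULift.{w} ℤ))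

instance : (sheafSections J AddCommGrpCat.{w}).obj (op t) |>.Additive where

include ht in
lemma constantSheaf_additive : (constantSheaf J AddCommGrpCat.{w}).Additive :=
  (constantSheafAdj J AddCommGrpCat.{w} ht).left_adjoint_additive

/-- maps out of the constant sheaf `ℤ` are the sections over a terminal object -/
def homConstZIso : preadditiveCoyoneda.obj (op (constZ J)) ≅ (sheafSections J AddCommGrpCat.{w}).obj (op t) :=
  haveI := constantSheaf_additive (J := J) ht
  NatIso.ofComponents
    (fun G => (((constantSheafAdj J AddCommGrpCat.{w} ht).homAddEquiv _ G).trans (intHomEquiv _)).toAddCommGrpIso)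
    (fun {G G'} φ => AddCommGrpCat.ext fun x => by
      exact congrArg (fun m : AddCommGrpCat.of (ULift.{w} ℤ) ⟶ ((sheafSections J AddCommGrpCat.{w}).obj (op t)).obj G' =>
        m.hom (ULift.up 1)) ((constantSheafAdj J AddCommGrpCat.{w} ht).homEquiv_naturality_right x φ))

include ht in
/-- Cohomology is computed by the sections of an injective resolution. -/
theorem nonempty_homology_sections [HasExt.{w} (Sheaf J AddCommGrpCat.{w})] {M : Sheaf J AddCommGrpCat.{w}}
    (R : InjectiveResolution M) (n : ℕ) :
    Nonempty (((((sheafSections J AddCommGrpCat.{w}).obj (op t)).mapHomologicalComplex (ComplexShape.up ℕ)).obj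
      R.cocomplex).homology n ≅ AddCommGrpCat.of (Ext.{w} (constZ J) M n)) := by
  obtain ⟨e⟩ := GrothSS.nonempty_homology_hom_iso R (constZ J) n
  exact ⟨(HomologicalComplex.homologyMapIso
    ((NatIso.mapHomologicalComplex (homConstZIso (J := J) ht).symm (ComplexShape.up ℕ)).app R.cocomplex) n) ≪≫ e⟩

end Sections

end Groth.Agent.BigEt
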