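import Groth.Agent.BigEt.Fpqc
import Groth.Prelude.Def_EtFppf

/-! # The pullback to the big fppf site -/

set_option autoImplicit false
set_option linter.all false
set_option backward.isDefEq.respectTransparency false
set_option backward.defeqAttrib.useBackward true

noncomputable section

universe u

open CategoryTheory CategoryTheory.Limits AlgebraicGeometry Opposite

namespace Groth.Agent.BigEt

local notation "ét" => Scheme.etalePrecoverage

variable {S : Scheme.{u}} (F : EtCoh.Ab S)

/-- an object over `S` seen as the whole of its etale site -/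
def topIso (T : Over S) : (Over.map T.hom).obj ((EtFppf.a T.left).obj (EtCoh.top T.left)) ≅ T where
  hom := emb T (EtCoh.top T.left)
  inv := embInv T
  hom_inv_id := Over.OverMorphism.ext (Category.id_comp _)
  inv_hom_id := embInv_emb T

/-- sections of the pullback are global sections of the inverse image -/
def sectionsIso (T : Over S) : (big F).obj.obj (op T) ≅ ((EtCoh.pull T.hom).obj F).obj.obj (op (EtCoh.top T.left)) :=
  (big F).obj.mapIso (topIso T).op ≪≫
    ((sheafToPresheaf T.left.smallEtaleTopology AddCommGrpCat.{u + 1}).mapIso (iF F T.hom)).app (op (EtCoh.top T.left))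

/-- the pullback as an fppf sheaf -/
def bigFppf : EtFppf.AbF S :=
  ⟨(big F).obj, fun E => Presieve.isSheaf_of_le _
    (BigSite.J_mono Scheme.fppfPrecoverage_le_fpqcPrecoverage S) (isSheaf_fpqc F E)⟩

variable [EtFppf.ACont S]

/-- it is the left adjoint of restriction to the small site -/
def aPullIso : (EtFppf.aPull S).obj F ≅ bigFppf F :=
  (Coyoneda.fullyFaithful.preimageIso (NatIso.ofComponents
    (fun G => Equiv.toIso
      ({ toFun := fun φ => ((EtFppf.aAdj S).homEquiv F G).symm
            ((BigSite.piEtAdj ét S).homEquiv F ((BigSite.eps ét Scheme.fppfPrecoverage S AddCommGrpCat.{u + 1}).obj G) ⟨φ.hom⟩)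
         invFun := fun ψ => ⟨(((BigSite.piEtAdj ét S).homEquiv F ((BigSite.eps ét Scheme.fppfPrecoverage S AddCommGrpCat.{u + 1}).obj G)).symm
            ((EtFppf.aAdj S).homEquiv F G ψ)).hom⟩
         left_inv := fun φ => by
           apply CategoryTheory.Sheaf.hom_ext
           simp
         right_inv := fun ψ => (congrArg _ (Equiv.apply_symm_apply _ _)).trans (Equiv.symm_apply_apply _ _) } :
        (bigFppf F ⟶ G) ≃ ((EtFppf.aPull S).obj F ⟶ G)))
    (fun {G G'} g => by
      ext φ
      show ((EtFppf.aAdj S).homEquiv F G').symm _ = ((EtFppf.aAdj S).homEquiv F G).symm _ ≫ g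
      rw [← (EtFppf.aAdj S).homEquiv_naturality_right_symm]
      refine congrArg ((EtFppf.aAdj S).homEquiv F G').symm ?_
      exact (BigSite.piEtAdj ét S).homEquiv_naturality_right (X := F) (⟨φ.hom⟩ : big F ⟶ (BigSite.eps ét Scheme.fppfPrecoverage S AddCommGrpCat.{u + 1}).obj G)
        ((BigSite.eps ét Scheme.fppfPrecoverage S AddCommGrpCat.{u + 1}).map g)) :
    coyoneda.obj (op (bigFppf F)) ≅ coyoneda.obj (op ((EtFppf.aPull S).obj F)))).unop

/-- sections of the pullback to the fppf site -/
def aPullSectionsIso (T : Over S) :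
    ((EtFppf.aPull S).obj F).obj.obj (op T) ≅ ((EtCoh.pull T.hom).obj F).obj.obj (op (EtCoh.top T.left)) :=
  ((sheafToPresheaf _ AddCommGrpCat.{u + 1}).mapIso (aPullIso F)).app (op T) ≪≫ sectionsIso F T

end Groth.Agent.BigEt
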