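import Groth.Agent.BigEt.Exact
import Groth.Agent.SiteCoh.ExtAdj
import Mathlib.CategoryTheory.MorphismProperty.OverAdjunction

/-! # Base change between big and small etale sites -/

set_option autoImplicit false
set_option linter.all false
set_option backward.isDefEq.respectTransparency false
set_option backward.defeqAttrib.useBackward true

noncomputable section

universe w v' u' u

open CategoryTheory CategoryTheory.Limits CategoryTheory.Abelian AlgebraicGeometry Opposite

namespace Groth.Agent.BigEt

section PushIso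

universe v₁ v₂ v₃ v₄ u₁ u₂ u₃ u₄

variable {C : Type u₁} [Category.{v₁} C] {D : Type u₂} [Category.{v₂} D] {D' : Type u₃} [Category.{v₃} D']
  {E : Type u₄} [Category.{v₄} E] (J : GrothendieckTopology C) (K : GrothendieckTopology D)
  (K' : GrothendieckTopology D') (L : GrothendieckTopology E)
  {F₁ : C ⥤ D} {G₁ : D ⥤ E} {F₂ : C ⥤ D'} {G₂ : D' ⥤ E}
  [F₁.IsContinuous J K] [G₁.IsContinuous K L] [F₂.IsContinuous J K'] [G₂.IsContinuous K' L]
  (A : Type u') [Category.{v'} A]

/-- pushforwards along isomorphic composites of functors are isomorphic -/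
def pushIso (e : F₁ ⋙ G₁ ≅ F₂ ⋙ G₂) :
    G₁.sheafPushforwardContinuous A K L ⋙ F₁.sheafPushforwardContinuous A J K ≅
      G₂.sheafPushforwardContinuous A K' L ⋙ F₂.sheafPushforwardContinuous A J K' :=
  NatIso.ofComponents
    (fun P => (fullyFaithfulSheafToPresheaf J A).preimageIso
      (Functor.isoWhiskerRight (NatIso.op e).symm P.obj))
    (fun {P Q} φ => by
      apply (fullyFaithfulSheafToPresheaf J A).map_injective
      ext U
      simp)

end PushIso

section Squares

variable {S T S' T' : Scheme.{u}} {f : T ⟶ S} {g : S' ⟶ S} {g' : T' ⟶ T} {f' : T' ⟶ S'}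
  (hsq : IsPullback g' f' f g)

include hsq in
lemma isPullback_pasted (U : Over S') :
    IsPullback (pullback.fst U.hom f') (pullback.snd U.hom f' ≫ g') (U.hom ≫ g) f :=
  (IsPullback.of_hasPullback U.hom f').paste_vert hsq.flip

/-- Beck-Chevalley for a cartesian square -/
def overBCIso : Over.map g ⋙ Over.pullback f ≅ Over.pullback f' ⋙ Over.map g' :=
  NatIso.ofComponents
    (fun U => Over.isoMk (isPullback_pasted hsq U).isoPullback.symm (by
      show (isPullback_pasted hsq U).isoPullback.inv ≫ pullback.snd U.hom f' ≫ g' = pullback.snd (U.hom ≫ g) f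
      exact (isPullback_pasted hsq U).isoPullback_inv_snd))
    (fun {U V} φ => by
      refine Over.OverMorphism.ext ?_
      apply (isPullback_pasted hsq V).hom_ext
      · simp
      · simp)

variable (K : Precoverage Scheme.{u}) (A : Type u') [Category.{v'} A]

/-- base change for big sites -/
def bigBCIso : BigSite.pushBig K f A ⋙ BigSite.pullBig K g A ≅ BigSite.pullBig K g' A ⋙ BigSite.pushBig K f' A :=
  pushIso (QuotSh.J K S') (QuotSh.J K S) (QuotSh.J K T') (QuotSh.J K T) A (overBCIso hsq)

end Squares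

section Small

local notation "ét" => Scheme.etalePrecoverage

variable {T S : Scheme.{u}} (f : T ⟶ S)

/-- restriction commutes with direct image -/
def pushResIso : BigSite.pushBig ét f AddCommGrpCat.{u + 1} ⋙ BigSite.resEt ét S ≅
    BigSite.resEt ét T ⋙ EtCoh.push f :=
  pushIso S.smallEtaleTopology (QuotSh.J ét S) T.smallEtaleTopology (QuotSh.J ét T) AddCommGrpCat.{u + 1}
    (MorphismProperty.Over.pullbackCompForgetIso (P := EtCoh.etaleMP) (Q := ⊤) f).symm

/-- pullback to the big site commutes with inverse image -/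
def pullCompIso : BigSite.piEtPull ét S ⋙ BigSite.pullBig ét f AddCommGrpCat.{u + 1} ≅
    EtCoh.pull f ⋙ BigSite.piEtPull ét T :=
  Adjunction.leftAdjointUniq ((BigSite.piEtAdj ét S).comp (BigSite.bigAdj ét f AddCommGrpCat.{u + 1}))
    (((EtCoh.pullPushAdj f).comp (BigSite.piEtAdj ét T)).ofNatIsoRight (pushResIso f).symm)

variable (S)

/-- `S` is terminal in its small etale site -/
def topIsTerminal : IsTerminal (EtCoh.top S) := MorphismProperty.Over.mkIdTerminal EtCoh.etaleMP.{u} S

/-- the pullback of the constant sheaf -/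
def constIso : constantSheaf S.smallEtaleTopology AddCommGrpCat.{u + 1} ⋙ BigSite.piEtPull ét S ≅
    constantSheaf (QuotSh.J ét S) AddCommGrpCat.{u + 1} :=
  Adjunction.leftAdjointUniq
    (((constantSheafAdj S.smallEtaleTopology AddCommGrpCat.{u + 1} (topIsTerminal S)).comp
      (BigSite.piEtAdj ét S)).ofNatIsoRight (Iso.refl _))
    (constantSheafAdj (QuotSh.J ét S) AddCommGrpCat.{u + 1} (Over.mkIdTerminal (X := S)))

/-- Cohomology of a big sheaf is cohomology of its restriction. -/
theorem nonempty_H_resEt (F : BigSite.Ab ét S) (n : ℕ) :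
    Nonempty (EtCoh.H S ((BigSite.resEt ét S).obj F) n ≃+ BigSite.H ét S F n) := by
  obtain ⟨e⟩ := SiteCoh.nonempty_extAdjEquiv (BigSite.piEtAdj ét S) (constZ S.smallEtaleTopology) n F
  exact ⟨e.symm.trans ((((extFunctor n).mapIso ((constIso S).app _).symm.op)).app F).addCommGroupIsoToAddEquiv⟩

theorem isIso_unit_ab (G : EtCoh.Ab S) : IsIso ((BigSite.piEtAdj ét S).unit.app G) :=
  @NatIso.isIso_app_of_isIso _ _ _ _ _ _ _ (isIso_unit S AddCommGrpCat.{u + 1}) G

variable {S}

/-- Cohomology of a pulled back sheaf over an object of the big site. -/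
theorem nonempty_HU (n : ℕ) (F : EtCoh.Ab S) :
    Nonempty (BigSite.HU ét ((BigSite.piEtPull ét S).obj F) n (Over.mk f) ≃+ EtCoh.H T ((EtCoh.pull f).obj F) n) := by
  obtain ⟨e⟩ := nonempty_H_resEt T ((BigSite.pullBig ét f AddCommGrpCat.{u + 1}).obj ((BigSite.piEtPull ét S).obj F)) n
  haveI := isIso_unit_ab T ((EtCoh.pull f).obj F)
  let i : (BigSite.resEt ét T).obj ((BigSite.pullBig ét f AddCommGrpCat.{u + 1}).obj ((BigSite.piEtPull ét S).obj F)) ≅
      (EtCoh.pull f).obj F :=
    (BigSite.resEt ét T).mapIso ((pullCompIso f).app F) ≪≫ (asIso ((BigSite.piEtAdj ét T).unit.app _)).symm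
  exact ⟨e.symm.trans ((EtCoh.HF T n).mapIso i).addCommGroupIsoToAddEquiv⟩

end Small

section Derived

local notation "ét" => Scheme.etalePrecoverage

variable {T S T' S' : Scheme.{u}} {f : T ⟶ S} {g : S' ⟶ S} {g' : T' ⟶ T} {f' : T' ⟶ S'}
  (c : IsPullback g' f' f g)

/-- base change, restricted to the small site -/
def smallBCIso : BigSite.pushBig ét f AddCommGrpCat.{u + 1} ⋙ BigSite.resEtAlong ét g ≅
    BigSite.resEtAlong ét g' ⋙ EtCoh.push f' :=
  (Functor.associator _ _ _).symm ≪≫ Functor.isoWhiskerRight (bigBCIso c ét _) _ ≪≫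
    Functor.associator _ _ _ ≪≫ Functor.isoWhiskerLeft _ (pushResIso f') ≪≫ (Functor.associator _ _ _).symm

/-- derived base change on the big sites -/
def bigDerivedBC (F : BigSite.Ab ét T) (q : ℕ) :
    (BigSite.pullBig ét g AddCommGrpCat.{u + 1}).obj ((BigSite.RpushBig ét f q).obj F) ≅
      (BigSite.RpushBig ét f' q).obj ((BigSite.pullBig ét g' AddCommGrpCat.{u + 1}).obj F) :=
  (rightDerivedCompExact (BigSite.pushBig ét f AddCommGrpCat.{u + 1}) (BigSite.pullBig ét g AddCommGrpCat.{u + 1}) q F).symm ≪≫
    (rightDerivedCongr (bigBCIso c ét AddCommGrpCat.{u + 1}) q).app F ≪≫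
      rightDerivedExactComp (BigSite.pullBig ét g' AddCommGrpCat.{u + 1}) (BigSite.pushBig ét f' AddCommGrpCat.{u + 1}) q F

/-- derived base change to the small site -/
def smallDerivedBC (F : BigSite.Ab ét T) (q : ℕ) :
    (BigSite.resEtAlong ét g).obj ((BigSite.RpushBig ét f q).obj F) ≅
      (EtCoh.Rpush f' q).obj ((BigSite.resEtAlong ét g').obj F) :=
  haveI : PreservesFiniteLimits (BigSite.resEtAlong ét g) := comp_preservesFiniteLimits _ _
  haveI : PreservesFiniteColimits (BigSite.resEtAlong ét g) := comp_preservesFiniteColimits _ _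
  haveI : PreservesFiniteLimits (BigSite.resEtAlong ét g') := comp_preservesFiniteLimits _ _
  haveI : PreservesFiniteColimits (BigSite.resEtAlong ét g') := comp_preservesFiniteColimits _ _
  haveI : (BigSite.resEtAlong ét g').PreservesInjectiveObjects :=
    ⟨fun h => (BigSite.resEt ét T').injective_obj_of_injective ((BigSite.pullBig ét g' _).injective_obj_of_injective h)⟩
  (rightDerivedCompExact (BigSite.pushBig ét f AddCommGrpCat.{u + 1}) (BigSite.resEtAlong ét g) q F).symm ≪≫
    (rightDerivedCongr (smallBCIso c) q).app F ≪≫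
      rightDerivedExactComp (BigSite.resEtAlong ét g') (EtCoh.push f') q F

end Derived

section Mono

variable {X Y : Scheme.{u}} (f : X ⟶ Y) [Mono f]

lemma isIso_mapPullback_unit (x : Over X) : IsIso ((Over.mapPullbackAdj f).unit.app x) := by
  haveI : IsIso ((Over.forget X).map ((Over.mapPullbackAdj f).unit.app x)) := by
    refine ⟨pullback.fst (x.hom ≫ f) f, ?_, ?_⟩
    · simp
    · apply pullback.hom_ext
      · simp
      · apply (cancel_mono f).1
        simp [pullback.condition]
  exact isIso_of_reflects_iso _ (Over.forget X)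

theorem isIso_bigAdj_counit (K : Precoverage Scheme.{u}) (A : Type u') [Category.{v'} A]
    (F : Sheaf (QuotSh.J K X) A) : IsIso ((BigSite.bigAdj K f A).counit.app F) := by
  haveI : IsIso ((sheafToPresheaf (QuotSh.J K X) A).map ((BigSite.bigAdj K f A).counit.app F)) := by
    haveI : ∀ U : (Over X)ᵒᵖ, IsIso ((((Over.mapPullbackAdj f).op.whiskerLeft A).counit.app F.obj).app U) := fun U => by
      haveI := isIso_mapPullback_unit f U.unop
      have h : IsIso (F.obj.map ((Over.mapPullbackAdj f).unit.app U.unop).op) := inferInstance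
      simp [Adjunction.whiskerLeft]
      simp at h
      exact h
    exact @NatIso.isIso_of_isIso_app _ _ _ _ _ _ _ this
  exact isIso_of_reflects_iso _ (sheafToPresheaf (QuotSh.J K X) A)

end Mono

end Groth.Agent.BigEt
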