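import Groth.Agent.BigEt.BaseChange
import Groth.Agent.Descent.Cosimp
import Mathlib.AlgebraicTopology.ExtraDegeneracy
import Mathlib.AlgebraicTopology.CechNerve
import Mathlib.Algebra.Homology.Embedding.ExtendHomology
import Mathlib.Algebra.Homology.Embedding.CochainComplex

/-! # The descent spectral sequence of a morphism of schemes with a section -/

set_option autoImplicit false
set_option linter.all false
set_option backward.isDefEq.respectTransparency false
set_option backward.defeqAttrib.useBackward true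

noncomputable section

universe u

open CategoryTheory CategoryTheory.Limits CategoryTheory.Abelian AlgebraicGeometry Opposite Simplicial

namespace Groth.Agent.BigEt

local notation "ét" => Scheme.etalePrecoverage

variable {X Y : Scheme.{u}} (F : EtCoh.Ab Y)

/-- a fixed injective resolution on the big site -/
def injRes : InjectiveResolution ((BigSite.piEtPull ét Y).obj F) := injectiveResolution _

/-- sections of the resolution -/
def M₀ : (Over Y)ᵒᵖ ⥤ CochainComplex AddCommGrpCat.{u + 1} ℕ where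
  obj T := (((sheafSections (QuotSh.J ét Y) AddCommGrpCat.{u + 1}).obj T).mapHomologicalComplex _).obj (injRes F).cocomplex
  map g := (NatTrans.mapHomologicalComplex ((sheafSections (QuotSh.J ét Y) AddCommGrpCat.{u + 1}).map g) _).app (injRes F).cocomplex
  map_id T := by ext; simp
  map_comp g g' := by ext; simp

/-- sections of the resolution, indexed by integers -/
def M : (Over Y)ᵒᵖ ⥤ CochainComplex AddCommGrpCat.{u + 1} ℤ :=
  M₀ F ⋙ ComplexShape.embeddingUpNat.extendFunctor AddCommGrpCat.{u + 1}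

instance isStrictlyGE_M (T : (Over Y)ᵒᵖ) : ((M F).obj T).IsStrictlyGE 0 :=
  inferInstanceAs (CochainComplex.IsStrictlyGE (((M₀ F).obj T).extend ComplexShape.embeddingUpNat) 0)

/-- sections over an object are global sections of the restriction -/
def sectIso (T : Over Y) : (sheafSections (QuotSh.J ét Y) AddCommGrpCat.{u + 1}).obj (op T) ≅
    BigSite.pullBig ét T.hom AddCommGrpCat.{u + 1} ⋙
      (sheafSections (QuotSh.J ét T.left) AddCommGrpCat.{u + 1}).obj (op (Over.mk (𝟙 T.left))) :=
  NatIso.ofComponents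
    (fun P => P.obj.mapIso (Over.isoMk (Iso.refl _) (by simp) :
      (Over.map T.hom).obj (Over.mk (𝟙 T.left)) ≅ T).op)
    (fun {P Q} φ => (φ.hom.naturality _).symm)

theorem nonempty_homology_M (T : Over Y) (n : ℕ) :
    Nonempty (((M F).obj (op T)).homology (n : ℤ) ≅ AddCommGrpCat.of (EtCoh.H T.left ((EtCoh.pull T.hom).obj F) n)) := by
  obtain ⟨e⟩ := nonempty_homology_sections (J := QuotSh.J ét T.left) (Over.mkIdTerminal (X := T.left))
    (mapRes (BigSite.pullBig ét T.hom AddCommGrpCat.{u + 1}) (injRes F)) n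
  obtain ⟨e'⟩ := nonempty_HU T.hom n F
  exact ⟨((M₀ F).obj (op T)).extendHomologyIso ComplexShape.embeddingUpNat (j := n) rfl ≪≫
    HomologicalComplex.homologyMapIso ((NatIso.mapHomologicalComplex (sectIso T) (ComplexShape.up ℕ)).app (injRes F).cocomplex) n ≪≫
      e ≪≫ e'.toAddCommGrpIso⟩

theorem nonempty_homology_M_top (n : ℕ) :
    Nonempty (((M F).obj (op (Over.mk (𝟙 Y)))).homology (n : ℤ) ≅ AddCommGrpCat.of (EtCoh.H Y F n)) := by
  obtain ⟨e⟩ := nonempty_homology_sections (J := QuotSh.J ét Y) (Over.mkIdTerminal (X := Y)) (injRes F) n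
  obtain ⟨e'⟩ := nonempty_H_resEt Y ((BigSite.piEtPull ét Y).obj F) n
  haveI := isIso_unit_ab Y F
  exact ⟨((M₀ F).obj (op (Over.mk (𝟙 Y)))).extendHomologyIso ComplexShape.embeddingUpNat (j := n) rfl ≪≫
    e ≪≫ e'.symm.toAddCommGrpIso ≪≫ (EtCoh.HF Y n).mapIso (asIso ((BigSite.piEtAdj ét Y).unit.app F)).symm⟩

variable (f : X ⟶ Y)

/-- the nerve of `f` over `Y` -/
def nerve : SimplicialObject (Over Y) where
  obj n := Over.mk (WidePullback.base (fun _ : Fin (n.unop.len + 1) => f))
  map g := Over.homMk ((Arrow.mk f).cechNerve.map g) (by exact WidePullback.lift_base ..)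
  map_id n := Over.OverMorphism.ext ((Arrow.mk f).cechNerve.map_id n)
  map_comp g g' := Over.OverMorphism.ext ((Arrow.mk f).cechNerve.map_comp g g')

/-- the cosimplicial complex of the nerve -/
def nerveCx : CosimplicialObject (CochainComplex AddCommGrpCat.{u + 1} ℤ) :=
  (nerve f).rightOp ⋙ M F

/-- the augmentation -/
def nerveAug : (M F).obj (op (Over.mk (𝟙 Y))) ⟶ (nerveCx F f).obj ⦋0⦌ :=
  (M F).map (Over.homMk (V := Over.mk (𝟙 Y)) (WidePullback.base (fun _ : Fin 1 => f))
    (Category.comp_id _) : (nerve f).obj (op ⦋0⦌) ⟶ Over.mk (𝟙 Y)).op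

lemma nerveAug_δ (i : Fin 2) :
    nerveAug F f ≫ (nerveCx F f).δ i = (M F).map
      (Over.homMk (V := Over.mk (𝟙 Y)) (WidePullback.base (fun _ : Fin 2 => f))
        (Category.comp_id _) : (nerve f).obj (op ⦋1⦌) ⟶ Over.mk (𝟙 Y)).op := by
  refine ((M F).map_comp _ _).symm.trans (congrArg (M F).map ?_)
  refine congrArg Quiver.Hom.op (Over.OverMorphism.ext ?_)
  exact WidePullback.lift_base ..

section Section

variable (s : Y ⟶ X) (hs : s ≫ f = 𝟙 Y)

open Arrow.AugmentedCechNerve

/-- the extra degeneracies over `Y` -/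
def sOver (p : ℕ) : (nerve f).obj (op ⦋p⦌) ⟶ (nerve f).obj (op ⦋p + 1⦌) :=
  Over.homMk (ExtraDegeneracy.s (Arrow.mk f) ⟨s, hs⟩ p) (by exact ExtraDegeneracy.s_comp_base _ _ p)

/-- the section over `Y` -/
def sOver' : Over.mk (𝟙 Y) ⟶ (nerve f).obj (op ⦋0⦌) :=
  Over.homMk ((extraDegeneracy (Arrow.mk f) ⟨s, hs⟩).s') (by
    exact (extraDegeneracy (Arrow.mk f) ⟨s, hs⟩).s'_comp_ε)

include hs in
/-- A section makes the rows exact. -/
theorem augExact_of_section (q : ℤ) : Descent.AugExact (Descent.evalDeg (nerveCx F f) q) ((nerveAug F f).f q) := by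
  let ed := extraDegeneracy (Arrow.mk f) ⟨s, hs⟩
  let T := M F ⋙ HomologicalComplex.eval _ (ComplexShape.up ℤ) q
  have key : ∀ {a b c : (Over Y)} (u : a ⟶ b) (v : b ⟶ c) (x : T.obj (op c)),
      T.map u.op (T.map v.op x) = T.map (u ≫ v).op x := fun u v x =>
    (ConcreteCategory.congr_hom (T.map_comp v.op u.op) x).symm
  have keyid : ∀ (a : Over Y) (x : T.obj (op a)), T.map (𝟙 a).op x = x := fun a x =>
    ConcreteCategory.congr_hom (T.map_id (op a)) x
  refine Descent.augExact_of_extraDegeneracy _ _ ((T.map (sOver' f s hs).op).hom)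
    (fun p => (T.map (sOver f s hs p).op).hom) (fun y => ?_) (fun x => ?_) (fun p x => ?_) (fun p i x => ?_)
  · refine (key _ _ y).trans ((congrArg (fun m => T.map (Quiver.Hom.op m) y) ?_).trans (keyid _ y))
    exact Over.OverMorphism.ext ed.s'_comp_ε
  · refine (key _ _ x).trans ((congrArg (fun m => T.map (Quiver.Hom.op m) x) ?_).trans (key _ _ x).symm)
    exact Over.OverMorphism.ext ed.s₀_comp_δ₁
  · refine (key _ _ x).trans ((congrArg (fun m => T.map (Quiver.Hom.op m) x) ?_).trans (keyid _ x))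
    exact Over.OverMorphism.ext (ed.s_comp_δ₀ p)
  · refine (key _ _ x).trans ((congrArg (fun m => T.map (Quiver.Hom.op m) x) ?_).trans (key _ _ x).symm)
    exact Over.OverMorphism.ext (ed.s_comp_δ p i)

end Section

/-- The descent spectral sequence, given exact rows. -/
theorem exists_nerve_spectralSequence
    (hex : ∀ q, Descent.AugExact (Descent.evalDeg (nerveCx F f) q) ((nerveAug F f).f q)) :
    ∃ (E : CohomologicalSpectralSequence AddCommGrpCat.{u + 1} 1)
      (a : SpSeq.Abutment E (fun n : ℤ =>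
        if 0 ≤ n then AddCommGrpCat.of (EtCoh.H Y F n.toNat) else AddCommGrpCat.of PUnit.{u + 2})),
      (∀ n, a.IsFinite n) ∧ SpSeq.IsBounded E ∧
      ∀ p q : ℤ, Nonempty ((E.page 1 le_rfl).X (p, q) ≅
        (if 0 ≤ p ∧ 0 ≤ q then
          AddCommGrpCat.of (EtCoh.H (widePullback Y (fun _ : Fin (p.toNat + 1) => X) (fun _ => f))
            ((EtCoh.pull (WidePullback.base (fun _ : Fin (p.toNat + 1) => f) :
              widePullback Y (fun _ : Fin (p.toNat + 1) => X) (fun _ => f) ⟶ Y)).obj F) q.toNat)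
         else AddCommGrpCat.of PUnit.{u + 2})) := by
  refine Descent.exists_spectralSequence (nerveCx F f) (fun p => isStrictlyGE_M F _) (nerveAug F f)
    ((nerveAug_δ F f 0).trans (nerveAug_δ F f 1).symm) hex _ (fun n => ?_)
    (fun p q => AddCommGrpCat.of (EtCoh.H (widePullback Y (fun _ : Fin (p + 1) => X) (fun _ => f))
      ((EtCoh.pull (WidePullback.base (fun _ : Fin (p + 1) => f) :
        widePullback Y (fun _ : Fin (p + 1) => X) (fun _ => f) ⟶ Y)).obj F) q))
    (fun p q => nonempty_homology_M F ((nerve f).obj (op ⦋p⦌)) q)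
    (AddCommGrpCat.of PUnit.{u + 2}) (AddCommGrpCat.isZero_of_subsingleton _)
  by_cases hn : 0 ≤ n
  · rw [if_pos hn]
    obtain ⟨n, rfl⟩ := Int.eq_ofNat_of_zero_le hn
    exact nonempty_homology_M_top F n
  · rw [if_neg hn]
    refine ⟨IsZero.iso ?_ (AddCommGrpCat.isZero_of_subsingleton _)⟩
    exact (ShortComplex.exact_iff_isZero_homology _).1
      (ShortComplex.exact_of_isZero_X₂ _ (CochainComplex.isZero_of_isStrictlyGE ((M F).obj (op (Over.mk (𝟙 Y)))) 0 n (by omega) :))

end Groth.Agent.BigEt
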