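import Groth.Agent.CompDerived.Basic
import Mathlib.CategoryTheory.Abelian.Exact

/-! # The first edge map of a composite of left exact functors is a monomorphism -/

set_option autoImplicit false
set_option linter.all false
set_option backward.isDefEq.respectTransparency false
set_option backward.defeqAttrib.useBackward true

noncomputable section

universe v₁ u₁ v₂ u₂ v₃ u₃

open CategoryTheory Limits

namespace Groth.Agent.BigEt

open Groth.Agent.CompDerived

variable {A : Type u₁} [Category.{v₁} A] [Abelian A] [HasInjectiveResolutions A]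
  {B : Type u₂} [Category.{v₂} B] [Abelian B] [HasInjectiveResolutions B]
  {C : Type u₃} [Category.{v₃} C] [Abelian C]
  (F : A ⥤ B) [F.Additive] [PreservesFiniteLimits F]
  (G : B ⥤ C) [G.Additive] [PreservesFiniteLimits G]
  (hI : ∀ J : A, Injective J → ∀ k, IsZero ((G.rightDerived (k + 1)).obj (F.obj J)))

include hI in
theorem exists_edge_mono : ∀ (q : ℕ) (X : A),
    (∀ j, j < q → IsZero ((F.rightDerived (j + 1)).obj X)) →
      ∃ e : (G.rightDerived (q + 1)).obj (F.obj X) ⟶ ((F ⋙ G).rightDerived (q + 1)).obj X, Mono e := by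
  haveI := comp_preservesFiniteLimits F G
  intro q
  induction q with
  | zero =>
    intro X _
    have hS := pres_shortExact X
    haveI := hS.mono_f
    let I := Abelian.image (F.map (pres X).g)
    let g₁ : F.obj (pres X).X₂ ⟶ I := Abelian.factorThruImage _
    have hg₁ : g₁ ≫ Abelian.image.ι _ = F.map (pres X).g := Abelian.image.fac _
    have w₁ : F.map (pres X).f ≫ g₁ = 0 := by
      rw [← cancel_mono (Abelian.image.ι (F.map (pres X).g)), Category.assoc, hg₁, ← F.map_comp,
        (pres X).zero, F.map_zero, zero_comp]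
    let S₁ : ShortComplex B := ShortComplex.mk _ _ w₁
    have hS₁ : S₁.ShortExact :=
      { exact := by
          let φ : S₁ ⟶ (pres X).map F :=
            ⟨𝟙 _, 𝟙 _, Abelian.image.ι (F.map (pres X).g), (Category.id_comp _).trans (Category.comp_id _).symm,
              (Category.id_comp _).trans hg₁.symm⟩
          haveI : Epi φ.τ₁ := inferInstanceAs (Epi (𝟙 _))
          haveI : IsIso φ.τ₂ := inferInstanceAs (IsIso (𝟙 _))
          haveI : Mono φ.τ₃ := inferInstanceAs (Mono (Abelian.image.ι _))
          exact (ShortComplex.exact_iff_of_epi_of_isIso_of_mono φ).2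
            (ShortComplex.exact_of_f_is_kernel _ (KernelFork.mapIsLimit _ hS.fIsKernel F))
        mono_f := inferInstanceAs (Mono (F.map (pres X).f))
        epi_g := inferInstanceAs (Epi (Abelian.factorThruImage _)) }
    obtain ⟨e₁⟩ := nonempty_cokernelIso G hS₁ (hI _ (pres_injective X))
    obtain ⟨e₂⟩ := nonempty_cokernelIso (F ⋙ G) hS (pres_acyclic (F ⋙ G) X)
    have hm : G.map g₁ ≫ G.map (Abelian.image.ι (F.map (pres X).g)) = G.map (F.map (pres X).g) := by
      rw [← G.map_comp, hg₁]
    let κ : cokernel (G.map g₁) ⟶ cokernel (G.map (F.map (pres X).g)) :=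
      cokernel.map _ _ (𝟙 _) (G.map (Abelian.image.ι (F.map (pres X).g))) (by rw [Category.id_comp]; exact hm)
    haveI : Mono κ := by
      refine Preadditive.mono_of_cancel_zero _ fun {P} a ha => ?_
      obtain ⟨P', π, _, b, hb⟩ := surjective_up_to_refinements_of_epi (cokernel.π (G.map g₁)) a
      have h0 : (b ≫ G.map (Abelian.image.ι (F.map (pres X).g))) ≫ cokernel.π (G.map (F.map (pres X).g)) = 0 := by
        have e := π ≫= ha
        rw [comp_zero, ← Category.assoc, hb, Category.assoc, cokernel.π_desc, ← Category.assoc] at e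
        exact e
      obtain ⟨P'', π', _, c, hc⟩ := (ShortComplex.exact_of_g_is_cokernel (ShortComplex.mk _ _
        (cokernel.condition (G.map (F.map (pres X).g)))) (cokernelIsCokernel _)).exact_up_to_refinements _ h0
      dsimp at hc
      rw [← hm] at hc
      have hc' : π' ≫ b = c ≫ G.map g₁ := by
        rw [← cancel_mono (G.map (Abelian.image.ι (F.map (pres X).g))), Category.assoc, Category.assoc]
        exact hc
      rw [← cancel_epi π, comp_zero, hb, ← cancel_epi π', comp_zero, ← Category.assoc, hc', Category.assoc,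
        cokernel.condition, comp_zero]
    exact ⟨e₁.inv ≫ κ ≫ e₂.hom, inferInstance⟩
  | succ q ih =>
    intro X hX
    have hS := pres_shortExact X
    have hSF := shortExact_map F hS (hX 0 (Nat.succ_pos q))
    obtain ⟨e₁⟩ := nonempty_shiftIso G hSF (hI _ (pres_injective X)) q
    obtain ⟨e₂⟩ := nonempty_shiftIso (F ⋙ G) hS (pres_acyclic (F ⋙ G) X) q
    obtain ⟨m, hm⟩ := ih (pres X).X₃ fun j hj => by
      obtain ⟨e⟩ := nonempty_shiftIso F hS (pres_acyclic F X) j
      exact (hX (j + 1) (Nat.succ_lt_succ hj)).of_iso e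
    exact ⟨e₁.inv ≫ m ≫ e₂.hom, inferInstance⟩

end Groth.Agent.BigEt
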