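import Groth.Agent.BigEt.FppfDesc
import Groth.Agent.SiteCoh.HofAdj

/-! # Etale versus fppf cohomology -/

set_option autoImplicit false
set_option linter.all false
set_option backward.isDefEq.respectTransparency false
set_option backward.defeqAttrib.useBackward true

noncomputable section

universe u

open CategoryTheory CategoryTheory.Limits CategoryTheory.Abelian AlgebraicGeometry Opposite

namespace Groth.Agent.BigEt

local notation "ét" => Scheme.etalePrecoverage
local notation "fp" => Scheme.fppfPrecoverage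

variable (S : Scheme.{u}) [EtFppf.ACont S]

/-- the composite adjunction from the small etale to the fppf site -/
def compAdj : BigSite.piEtPull ét S ⋙ epsL S ⊣ EtFppf.aPush S :=
  ((BigSite.piEtAdj ét S).comp (epsAdj S)).ofNatIsoRight (Iso.refl _)

theorem isIso_aUnit (F : EtCoh.Ab S) : IsIso ((EtFppf.aAdj S).unit.app F) := by
  haveI := isIso_unit_ab S F
  haveI : IsIso ((epsAdj S).unit.app (big F)) := isIso_eps_unit S (bigFppf F)
  haveI : IsIso ((compAdj S).unit.app F) := by
    simp only [compAdj]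
    simp [Adjunction.ofNatIsoRight]
    infer_instance
  have e := Adjunction.unit_leftAdjointUniq_hom_app (compAdj S) (EtFppf.aAdj S) F
  rw [← e]
  infer_instance

theorem isZero_RaPush (F : EtCoh.Ab S) (q : ℕ) :
    IsZero ((EtFppf.RaPush S (q + 1)).obj ((EtFppf.aPull S).obj F)) := by
  refine IsZero.of_iso ?_ ((EtFppf.RaPush S (q + 1)).mapIso (aPullIso F))
  refine IsZero.of_iso ((BigSite.resEt ét S).map_isZero (vanish q S F)) ?_
  exact (rightDerivedCongr (Iso.refl _ : EtFppf.aPush S ≅ epsS S ⋙ BigSite.resEt ét S) (q + 1)).app _ ≪≫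
    rightDerivedCompExact (epsS S) (BigSite.resEt ét S) (q + 1) _

/-- the fppf sheafification of the constant sheaf -/
def epsConstIso : constantSheaf (QuotSh.J ét S) AddCommGrpCat.{u + 1} ⋙ epsL S ≅
    constantSheaf (QuotSh.J fp S) AddCommGrpCat.{u + 1} :=
  Adjunction.leftAdjointUniq
    (((constantSheafAdj (QuotSh.J ét S) AddCommGrpCat.{u + 1} (Over.mkIdTerminal (X := S))).comp
      (epsAdj S)).ofNatIsoRight (Iso.refl _))
    (constantSheafAdj (QuotSh.J fp S) AddCommGrpCat.{u + 1} (Over.mkIdTerminal (X := S)))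

omit [EtFppf.ACont S] in
theorem nonempty_H_eps (F : EtCoh.Ab S) (n : ℕ) :
    Nonempty (BigSite.H ét S (big F) n ≃+ EtFppf.HF S (bigFppf F) n) := by
  let adj := epsAdj S
  have h := SiteCoh.adjMap_bijective adj (X := constZ (QuotSh.J ét S))
    (X' := constZ (QuotSh.J fp S)) ((epsConstIso S).app _).symm n (bigFppf F) (fun q => vanish q S F)
  exact ⟨AddEquiv.ofBijective
    (AddMonoidHom.mk' (SiteCoh.adjMap adj ((epsConstIso S).app _).symm (bigFppf F) n)
      (fun x y => by simp [SiteCoh.adjMap, Ext.mapExactFunctor_add])) h⟩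

theorem nonempty_H_etale_fppf (F : EtCoh.Ab S) (n : ℕ) :
    Nonempty (EtCoh.H S F n ≃+ EtFppf.HF S ((EtFppf.aPull S).obj F) n) := by
  haveI := isIso_unit_ab S F
  obtain ⟨e₁⟩ := nonempty_H_resEt S (big F) n
  obtain ⟨e₂⟩ := nonempty_H_eps S F n
  exact ⟨((((EtCoh.HF S n).mapIso (asIso ((BigSite.piEtAdj ét S).unit.app F))).addCommGroupIsoToAddEquiv.trans e₁).trans e₂).trans
    ((extFunctorObj (constZ (QuotSh.J fp S)) n).mapIso (aPullIso F).symm).addCommGroupIsoToAddEquiv⟩

variable {S}

theorem nonempty_fppf_finite {X Y : Scheme.{u}} (f : X ⟶ Y) [IsFinite f] [EtFppf.ACont X] [EtFppf.ACont Y]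
    (F : EtCoh.Ab X) (i : ℕ) :
    Nonempty ((EtFppf.aPull Y).obj ((EtCoh.Rpush f i).obj F) ≅
      (EtFppf.RpushBig f i).obj ((EtFppf.aPull X).obj F)) := by
  cases i with
  | zero =>
    haveI := isIso_cmp f F
    haveI : PreservesFiniteLimits (EtCoh.push f) :=
      haveI := (EtCoh.pullPushAdj f).rightAdjoint_preservesLimits
      PreservesLimitsOfSize.preservesFiniteLimits.{0, 0} _
    haveI : PreservesFiniteLimits (EtFppf.pushBig f) := pushBig_preservesFiniteLimits f fp
    exact ⟨(EtFppf.aPull Y).mapIso ((EtCoh.push f).rightDerivedZeroIsoSelf.app F) ≪≫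
      aPullIso ((EtCoh.push f).obj F) ≪≫
      ((epsS Y).preimageIso (asIso (cmp f F)) :
        bigFppf ((EtCoh.push f).obj F) ≅ (EtFppf.pushBig f).obj (bigFppf F)) ≪≫
      ((EtFppf.pushBig f).rightDerivedZeroIsoSelf.app (bigFppf F)).symm ≪≫
      (EtFppf.RpushBig f 0).mapIso (aPullIso F).symm⟩
  | succ i =>
    haveI : (EtFppf.aPull Y).Additive := (EtFppf.aAdj Y).left_adjoint_additive
    refine ⟨IsZero.iso ((EtFppf.aPull Y).map_isZero (EtSh.isZero_Rpush f F i)) ?_⟩
    exact (isZero_RpushFp f (bigFppf F) (i + 1) (vanish i X F)).of_iso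
      ((EtFppf.RpushBig f (i + 1)).mapIso (aPullIso F))

end Groth.Agent.BigEt
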