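import Groth.Prelude.Def_BigSite
import Groth.Agent.BigEt.General
import Groth.Agent.SiteCoh.OverExact
import Groth.Agent.AnPts.LanExact
import Mathlib.CategoryTheory.Adjunction.Triple
import Mathlib.CategoryTheory.Preadditive.Injective.Preserves

/-! # Exactness of the functors between the big and the small etale sites -/

set_option autoImplicit false
set_option linter.all false
set_option backward.isDefEq.respectTransparency false
set_option backward.defeqAttrib.useBackward true

noncomputable section

universe u

open CategoryTheory CategoryTheory.Limits AlgebraicGeometry Opposite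

namespace Groth.Agent.BigEt

section MapExact

variable {X Y : Scheme.{u}} (f : X ⟶ Y)

/-- lifts along `f` -/
abbrev Lifts (V : Over Y) : Type u := {g : V.left ⟶ X // g ≫ f = V.hom}

/-- the discrete category of lifts inside the costructured arrows -/
def discIncl (V : Over Y) : Discrete (Lifts f V) ⥤ CostructuredArrow (Over.map f).op (op V) :=
  Discrete.functor fun g => CostructuredArrow.mk (S := (Over.map f).op) (Y := op (Over.mk g.1))
    (Over.homMk (U := V) (V := (Over.map f).obj (Over.mk g.1)) (𝟙 V.left) (by simpa using g.2)).op

/-- the retraction -/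
def discRetr (V : Over Y) : CostructuredArrow (Over.map f).op (op V) ⥤ Discrete (Lifts f V) where
  obj d := ⟨⟨d.hom.unop.left ≫ d.left.unop.hom, by simpa using Over.w d.hom.unop⟩⟩
  map {d d'} φ := Discrete.eqToHom (Subtype.ext (by
    have h := congrArg (fun t => t.unop.left) (CostructuredArrow.w φ)
    simp only [Functor.op_map, unop_comp, Quiver.Hom.unop_op, Over.comp_left, Over.map_map_left] at h
    show d.hom.unop.left ≫ d.left.unop.hom = d'.hom.unop.left ≫ d'.left.unop.hom
    rw [← h, Category.assoc]
    exact congrArg (d'.hom.unop.left ≫ ·) (Over.w φ.left.unop)))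
  map_id _ := Subsingleton.elim _ _
  map_comp _ _ := Subsingleton.elim _ _

instance (V : Over Y) (d : CostructuredArrow (Over.map f).op (op V)) (g : Discrete (Lifts f V)) :
    Subsingleton (d ⟶ (discIncl f V).obj g) := ⟨fun a b => by
  have key : ∀ c : d ⟶ (discIncl f V).obj g, c.left.unop.left = d.hom.unop.left := fun c => by
    have h := congrArg (fun t => t.unop.left) (CostructuredArrow.w c)
    simpa [discIncl] using h
  exact CostructuredArrow.hom_ext _ _ (Quiver.Hom.unop_inj (Over.OverMorphism.ext ((key a).trans (key b).symm)))⟩

/-- the adjunction -/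
def discAdj (V : Over Y) : discRetr f V ⊣ discIncl f V :=
  Adjunction.mkOfHomEquiv
    { homEquiv := fun d g =>
        { toFun := fun e => CostructuredArrow.homMk
            (Over.homMk (U := Over.mk g.as.1) (V := d.left.unop) d.hom.unop.left
              (congrArg Subtype.val (Discrete.eq_of_hom e))).op
            (Quiver.Hom.unop_inj (Over.OverMorphism.ext (by simp [discIncl])))
          invFun := fun c => Discrete.eqToHom (Subtype.ext (by
            have h : c.left.unop.left = d.hom.unop.left := by
              have := congrArg (fun t => t.unop.left) (CostructuredArrow.w c)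
              simpa [discIncl] using this
            have hw := Over.w c.left.unop
            rw [h] at hw
            exact hw))
          left_inv := fun _ => Subsingleton.elim _ _
          right_inv := fun _ => Subsingleton.elim _ _ }
      homEquiv_naturality_left_symm := fun _ _ => Subsingleton.elim _ _
      homEquiv_naturality_right := fun _ _ => Subsingleton.elim _ _ }

instance (V : Over Y) : (discIncl f V).Final := Functor.final_of_adjunction (discAdj f V)

instance lan_preservesMonomorphisms :
    ((Over.map f).op.lan : ((Over X)ᵒᵖ ⥤ AddCommGrpCat.{u + 1}) ⥤ _).PreservesMonomorphisms where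
  preserves {P Q} φ _ := by
    haveI : ∀ V : (Over Y)ᵒᵖ, Mono (((Over.map f).op.lan.map φ).app V) := by
      rintro ⟨V⟩
      let α : (Over.map f).op.lan ⋙ (evaluation (Over Y)ᵒᵖ AddCommGrpCat.{u + 1}).obj (op V) ≅
          (Functor.whiskeringLeft _ _ AddCommGrpCat.{u + 1}).obj
            (CostructuredArrow.proj (Over.map f).op (op V)) ⋙ colim :=
        NatIso.ofComponents (fun P => Functor.leftKanExtensionObjIsoColimit (Over.map f).op P (op V))
          (fun {P Q} ψ => by
            apply (Functor.isPointwiseLeftKanExtensionLeftKanExtensionUnit (Over.map f).op P (op V)).hom_ext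
            intro T
            have h₂ := NatTrans.congr_app ((Over.map f).op.lanUnit.naturality ψ) T.left
            dsimp at h₂ ⊢
            simp only [Functor.lan, Functor.lanUnit] at h₂ ⊢
            simp [← reassoc_of% h₂, NatTrans.naturality_assoc])
      let Φ := (Functor.whiskeringLeft _ _ AddCommGrpCat.{u + 1}).obj
        (CostructuredArrow.proj (Over.map f).op (op V))
      haveI : Mono (Functor.whiskerLeft (discIncl f V) (Φ.map φ)) :=
        @NatTrans.mono_of_mono_app _ _ _ _ _ _ _ (fun g => by
          show Mono (φ.app _)
          infer_instance)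
      haveI : HasExactColimitsOfShape (Discrete (Lifts f V)) AddCommGrpCat.{u + 1} :=
        HasExactColimitsOfShape.of_domain_equivalence _ (Discrete.equivalence (Equiv.ulift.{u + 1} (α := Lifts f V)))
      haveI : (colim : (Discrete (Lifts f V) ⥤ AddCommGrpCat.{u + 1}) ⥤ _).PreservesMonomorphisms :=
        preservesMonomorphisms_of_preservesLimitsOfShape _
      haveI : Mono (colimMap (Functor.whiskerLeft (discIncl f V) (Φ.map φ))) :=
        (colim : (Discrete (Lifts f V) ⥤ AddCommGrpCat.{u + 1}) ⥤ _).map_mono _
      have h2 : Mono ((colim : (CostructuredArrow (Over.map f).op (op V) ⥤ AddCommGrpCat.{u + 1}) ⥤ _).map (Φ.map φ)) :=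
        SiteCoh.OverExact.mono_map_of_natIso (Functor.Final.colimIso (discIncl f V) (E := AddCommGrpCat.{u + 1})) (Φ.map φ)
          (show Mono (colimMap (Functor.whiskerLeft (discIncl f V) (Φ.map φ))) from inferInstance)
      exact SiteCoh.OverExact.mono_map_of_natIso α.symm φ h2
    exact NatTrans.mono_of_mono_app _

variable (K : Precoverage Scheme.{u})

theorem shriekAb_preservesFiniteLimits : PreservesFiniteLimits (BigSite.shriekAb K f) := by
  let adj := BigSite.shriekAbAdj K f
  haveI := adj.leftAdjoint_preservesColimits
  haveI : (sheafToPresheaf (QuotSh.J K X) AddCommGrpCat.{u + 1}).PreservesMonomorphisms :=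
    Functor.preservesMonomorphisms_of_adjunction (sheafificationAdjunction _ _)
  haveI : (presheafToSheaf (QuotSh.J K Y) AddCommGrpCat.{u + 1}).PreservesMonomorphisms :=
    preservesMonomorphisms_of_preservesLimitsOfShape _
  haveI : (Functor.sheafPullbackConstruction.sheafPullback (Over.map f) AddCommGrpCat.{u + 1} (QuotSh.J K X) (QuotSh.J K Y)).PreservesMonomorphisms := by
    unfold Functor.sheafPullbackConstruction.sheafPullback
    infer_instance
  haveI : (BigSite.shriekAb K f).PreservesMonomorphisms :=
    Functor.PreservesMonomorphisms.of_iso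
      (Functor.sheafPullbackConstruction.sheafPullbackIso (Over.map f) AddCommGrpCat.{u + 1} (QuotSh.J K X) (QuotSh.J K Y)).symm
  exact SiteBase.preservesFiniteLimits_of_preservesMono _

instance shriekAb_preservesFiniteLimits' : PreservesFiniteLimits (BigSite.shriekAb K f) :=
  shriekAb_preservesFiniteLimits f K

instance shriekAb_preservesFiniteColimits : PreservesFiniteColimits (BigSite.shriekAb K f) :=
  haveI := (BigSite.shriekAbAdj K f).leftAdjoint_preservesColimits
  PreservesColimitsOfSize.preservesFiniteColimits.{0, 0} _

instance shriekAb_additive : (BigSite.shriekAb K f).Additive :=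
  (BigSite.shriekAbAdj K f).left_adjoint_additive

instance pullBig_preservesFiniteLimits :
    PreservesFiniteLimits (BigSite.pullBig K f AddCommGrpCat.{u + 1}) :=
  haveI := (BigSite.shriekAbAdj K f).rightAdjoint_preservesLimits
  PreservesLimitsOfSize.preservesFiniteLimits.{0, 0} _

instance pullBig_preservesFiniteColimits :
    PreservesFiniteColimits (BigSite.pullBig K f AddCommGrpCat.{u + 1}) :=
  haveI := (BigSite.bigAdj K f AddCommGrpCat.{u + 1}).leftAdjoint_preservesColimits
  PreservesColimitsOfSize.preservesFiniteColimits.{0, 0} _

instance pullBig_preservesInjectives :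
    (BigSite.pullBig K f AddCommGrpCat.{u + 1}).PreservesInjectiveObjects :=
  haveI : (BigSite.shriekAb K f).PreservesMonomorphisms :=
    preservesMonomorphisms_of_preservesLimitsOfShape _
  ⟨fun {I} _ => Injective.injective_of_adjoint (BigSite.shriekAbAdj K f) I⟩

end MapExact

section ResEt

variable (S : Scheme.{u})

local notation "Jet" => QuotSh.J Scheme.etalePrecoverage

instance a_full : (EtFppf.a S).Full := inferInstanceAs (Scheme.Etale.forget S).Full

instance a_faithful : (EtFppf.a S).Faithful := inferInstanceAs (Scheme.Etale.forget S).Faithful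

instance a_preservesFiniteLimits : PreservesFiniteLimits (EtFppf.a S) :=
  inferInstanceAs (PreservesFiniteLimits (MorphismProperty.Over.forget EtCoh.etaleMP.{u} ⊤ S))

instance a_flat : RepresentablyFlat (EtFppf.a S) := flat_of_preservesFiniteLimits _

instance piEtPull_preservesFiniteLimits :
    PreservesFiniteLimits (BigSite.piEtPull Scheme.etalePrecoverage S) := by
  haveI : PreservesFiniteLimits ((EtFppf.a S).op.lan : (_ ⥤ (Over S)ᵒᵖ ⥤ AddCommGrpCat.{u + 1})) :=
    AnPts.lan_preservesFiniteLimits_of_flat_asSmall.{u + 1} (EtFppf.a S)
  exact Functor.sheafPullbackConstruction.preservesFiniteLimits _ _ _ _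

instance piEtPull_preservesFiniteColimits :
    PreservesFiniteColimits (BigSite.piEtPull Scheme.etalePrecoverage S) :=
  haveI := (BigSite.piEtAdj Scheme.etalePrecoverage S).leftAdjoint_preservesColimits
  PreservesColimitsOfSize.preservesFiniteColimits.{0, 0} _

instance piEtPull_additive : (BigSite.piEtPull Scheme.etalePrecoverage S).Additive :=
  (BigSite.piEtAdj Scheme.etalePrecoverage S).left_adjoint_additive

instance resEt_preservesFiniteLimits :
    PreservesFiniteLimits (BigSite.resEt Scheme.etalePrecoverage S) :=
  haveI := (BigSite.piEtAdj Scheme.etalePrecoverage S).rightAdjoint_preservesLimits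
  PreservesLimitsOfSize.preservesFiniteLimits.{0, 0} _

instance resEt_preservesFiniteColimits :
    PreservesFiniteColimits (BigSite.resEt Scheme.etalePrecoverage S) :=
  haveI := (BigSite.iEtAdj Scheme.etalePrecoverage S).leftAdjoint_preservesColimits
  PreservesColimitsOfSize.preservesFiniteColimits.{0, 0} _

instance resEt_preservesInjectives : (BigSite.resEt Scheme.etalePrecoverage S).PreservesInjectiveObjects :=
  haveI : (BigSite.piEtPull Scheme.etalePrecoverage S).PreservesMonomorphisms :=
    preservesMonomorphisms_of_preservesLimitsOfShape _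
  ⟨fun {I} _ => Injective.injective_of_adjoint (BigSite.piEtAdj Scheme.etalePrecoverage S) I⟩

/-- the unit of a chain of adjunctions whose middle functor has a fully faithful right adjoint -/
theorem isIso_unit (A : Type (u + 2)) [Category.{u + 1} A] {FA : A → A → Type*} {CA : A → Type (u + 1)}
    [∀ X Y, FunLike (FA X Y) (CA X) (CA Y)] [ConcreteCategory.{u + 1} A FA]
    [((EtFppf.a S).sheafPushforwardContinuous A S.smallEtaleTopology (Jet S)).IsRightAdjoint]
    [∀ (P : S.Etaleᵒᵖ ⥤ A), (EtFppf.a S).op.HasPointwiseRightKanExtension P] :
    IsIso ((EtFppf.a S).sheafAdjunctionContinuous A S.smallEtaleTopology (Jet S)).unit := by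
  refine (Adjunction.Triple.mk ((EtFppf.a S).sheafAdjunctionContinuous A S.smallEtaleTopology (Jet S))
    ((EtFppf.a S).sheafAdjunctionCocontinuous A S.smallEtaleTopology (Jet S))).isIso_unit_iff_isIso_counit.2 ?_
  suffices ∀ G, IsIso (((EtFppf.a S).sheafAdjunctionCocontinuous A S.smallEtaleTopology (Jet S)).counit.app G) from
    NatIso.isIso_of_isIso_app _
  intro G
  haveI : IsIso ((sheafToPresheaf S.smallEtaleTopology A).map
      (((EtFppf.a S).sheafAdjunctionCocontinuous A S.smallEtaleTopology (Jet S)).counit.app G)) := by
    show IsIso (((EtFppf.a S).sheafAdjunctionCocontinuous A S.smallEtaleTopology (Jet S)).counit.app G).hom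
    erw [Functor.sheafAdjunctionCocontinuous_counit_app_hom]
    infer_instance
  exact isIso_of_reflects_iso _ (sheafToPresheaf S.smallEtaleTopology A)

end ResEt

end Groth.Agent.BigEt
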