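import Groth.Agent.BigEt.AFppf
import Groth.Agent.EtSh.FiniteBC

/-! # Direct images along finite morphisms and the big etale site -/

set_option autoImplicit false
set_option linter.all false
set_option backward.isDefEq.respectTransparency false
set_option backward.defeqAttrib.useBackward true

noncomputable section

universe u

open CategoryTheory CategoryTheory.Limits AlgebraicGeometry Opposite

namespace Groth.Agent.BigEt

local notation "ét" => Scheme.etalePrecoverage

variable {X Y : Scheme.{u}} (f : X ⟶ Y) (F : EtCoh.Ab X)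

/-- the comparison map -/
def cmp : big ((EtCoh.push f).obj F) ⟶ (BigSite.pushBig ét f AddCommGrpCat.{u + 1}).obj (big F) :=
  ((BigSite.piEtAdj ét Y).homEquiv _ _).symm
    ((EtCoh.push f).map ((BigSite.piEtAdj ét X).unit.app F) ≫ (pushResIso f).inv.app (big F))

theorem cmp_un {V : Y.Etale} (r : EtCoh.sect ((EtCoh.push f).obj F) V) :
    (cmp f F).hom.app (op ((EtFppf.a Y).obj V)) (un ((EtCoh.push f).obj F) r) =
      (un F (V := (EtCoh.bc f).obj V) r : (big F).obj.obj (op ((EtFppf.a X).obj ((EtCoh.bc f).obj V)))) := by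
  have h := ((BigSite.piEtAdj ét Y).homEquiv_unit _ _ (cmp f F)).symm.trans (Equiv.apply_symm_apply _ _)
  have h' := ConcreteCategory.congr_hom (congrArg (fun m : (EtCoh.push f).obj F ⟶ (BigSite.resEt ét Y).obj
    ((BigSite.pushBig ét f AddCommGrpCat.{u + 1}).obj (big F)) => m.hom.app (op V)) h) r
  refine Eq.trans h' ?_
  exact ConcreteCategory.congr_hom ((big F).obj.map_id _) _

variable {X' Y' : Scheme.{u}} {g : Y' ⟶ Y} {f' : X' ⟶ Y'} {g' : X' ⟶ X} (hc : IsPullback g' f' f g)

/-- the comparison map restricted to a small site, in terms of inverse images -/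
def cmpSmall : (EtCoh.pull g).obj ((EtCoh.push f).obj F) ⟶ (EtCoh.push f').obj ((EtCoh.pull g').obj F) :=
  (iF ((EtCoh.push f).obj F) g).inv ≫ (BigSite.resEtAlong ét g).map (cmp f F) ≫
    (smallBCIso hc).hom.app (big F) ≫ (EtCoh.push f').map (iF F g').hom

theorem cmpSmall_eq : cmpSmall f F hc = EtCoh.baseChange0 f g f' g' hc.w F := by
  apply ((EtCoh.pullPushAdj g).homEquiv _ _).injective
  rw [Adjunction.homEquiv_unit, Adjunction.homEquiv_unit]
  refine CategoryTheory.Sheaf.hom_ext (NatTrans.ext (funext fun V => AddCommGrpCat.ext fun r => ?_))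
  obtain ⟨V⟩ := V
  refine Eq.trans ?_ (EtSh.baseChange0_unit hc F r).symm
  show (cmpSmall f F hc).hom.app (op ((EtCoh.bc g).obj V))
    (((EtCoh.pullPushAdj g).unit.app ((EtCoh.push f).obj F)).hom.app (op V) r) = _
  rw [← iF_proj]
  let i := iF ((EtCoh.push f).obj F) g
  let W := (EtCoh.bc g).obj V
  have e0 : ∀ z, i.inv.hom.app (op W) (i.hom.hom.app (op W) z) = z := fun z =>
    ConcreteCategory.congr_hom (congrArg (fun m : (BigSite.resEtAlong ét g).obj (big ((EtCoh.push f).obj F)) ⟶ _ =>
      m.hom.app (op W)) i.hom_inv_id) z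
  show (iF F g').hom.hom.app (op ((EtCoh.bc f').obj W)) (((smallBCIso hc).hom.app (big F)).hom.app (op W)
    ((cmp f F).hom.app (op ((Over.map g).obj ((EtFppf.a Y').obj W))) (i.inv.hom.app (op W) _))) = _
  erw [e0]
  erw [NatTrans.naturality_apply (cmp f F).hom (projHom g V).op (un ((EtCoh.push f).obj F) r)]
  erw [cmp_un]
  let θ₁ := (MorphismProperty.Over.pullbackComp (P := EtCoh.etaleMP) (Q := ⊤) g' f).hom.app V
  let θ₂ := (MorphismProperty.Over.pullbackCongr (P := EtCoh.etaleMP) (Q := ⊤) hc.w).inv.app V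
  let θ₃ := (MorphismProperty.Over.pullbackComp (P := EtCoh.etaleMP) (Q := ⊤) f' g).inv.app V
  let F' := (EtCoh.pull g').obj F
  let u₀ := ((EtCoh.pullPushAdj g').unit.app F).hom.app (op ((EtCoh.bc f).obj V)) r
  show _ = F'.obj.map θ₃.op (F'.obj.map θ₂.op (F'.obj.map θ₁.op u₀))
  rw [show u₀ = _ from (iF_proj F g' ((EtCoh.bc f).obj V) r).symm]
  erw [← NatTrans.naturality_apply (iF F g').hom.hom θ₁.op, ← NatTrans.naturality_apply (iF F g').hom.hom θ₂.op,
    ← NatTrans.naturality_apply (iF F g').hom.hom θ₃.op]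
  refine congrArg ((iF F g').hom.hom.app _) ?_
  simp [smallBCIso, bigBCIso, pushResIso, pushIso]
  change res F _ (res F _ (res F _ (un F r))) = res F _ (res F _ (res F _ (res F _ (un F r))))
  simp only [res_res]
  refine congrArg (fun m => (big F).obj.map (Quiver.Hom.op m) (un F r)) ?_
  apply Over.OverMorphism.ext
  have h1 : θ₁.left ≫ pullback.fst (pullback.snd V.hom f) g' ≫ pullback.fst V.hom f =
      pullback.fst V.hom (g' ≫ f) :=
    MorphismProperty.Over.pullbackComp_left_fst_fst g' f V
  have h2 : θ₂.left ≫ pullback.fst V.hom (g' ≫ f) = pullback.fst V.hom (f' ≫ g) := by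
    have := MorphismProperty.Over.pullbackCongr_hom_app_left_fst (P := EtCoh.etaleMP) (Q := ⊤) hc.w V
    rw [← this, ← Category.assoc, ← MorphismProperty.Comma.comp_left, Iso.inv_hom_id_app]
    exact Category.id_comp _
  have h3 : θ₃.left ≫ pullback.fst V.hom (f' ≫ g) =
      pullback.fst (pullback.snd V.hom g) f' ≫ pullback.fst V.hom g := by
    have := MorphismProperty.Over.pullbackComp_left_fst_fst (P := EtCoh.etaleMP) (Q := ⊤) f' g V
    rw [← this, ← Category.assoc, ← MorphismProperty.Comma.comp_left, Iso.inv_hom_id_app]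
    exact Category.id_comp _
  have hw : θ₃.left ≫ θ₂.left ≫ θ₁.left ≫ pullback.snd (pullback.snd V.hom f) g' =
      pullback.snd (pullback.snd V.hom g) f' := by
    have h := MorphismProperty.Over.w (θ₃ ≫ θ₂ ≫ θ₁)
    simp only [Category.assoc, MorphismProperty.Comma.comp_left] at h
    exact h
  show 𝟙 _ ≫ (isPullback_pasted hc ((EtFppf.a Y').obj W)).isoPullback.hom ≫
      ((Over.pullback f).map (projHom g V)).left =
    θ₃.left ≫ θ₂.left ≫ θ₁.left ≫ pullback.fst (pullback.snd V.hom f) g'
  refine pullback.hom_ext ?_ ?_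
  · simp only [Category.assoc, Category.id_comp]
    refine Eq.trans ?_ ((congrArg (fun z => θ₃.left ≫ θ₂.left ≫ z) h1).trans
      ((congrArg (θ₃.left ≫ ·) h2).trans h3)).symm
    simp [projHom]
    exact (isPullback_pasted hc ((EtFppf.a Y').obj W)).isoPullback_hom_fst_assoc _
  · simp only [Category.assoc, Category.id_comp]
    rw [show pullback.fst (pullback.snd V.hom f) g' ≫ pullback.snd ((EtFppf.a Y).obj V).hom f =
      pullback.snd (pullback.snd V.hom f) g' ≫ g' from pullback.condition, reassoc_of% hw]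
    simp [projHom]
    exact (isPullback_pasted hc ((EtFppf.a Y').obj W)).isoPullback_hom_snd

include hc in
theorem isIso_cmp_resEtAlong [IsFinite f] : IsIso ((BigSite.resEtAlong ét g).map (cmp f F)) := by
  have : IsIso (cmpSmall f F hc) := by
    rw [cmpSmall_eq]
    exact EtSh.isIso_baseChange0_finite hc F
  have e : (BigSite.resEtAlong ét g).map (cmp f F) = (iF ((EtCoh.push f).obj F) g).hom ≫ cmpSmall f F hc ≫
      inv ((smallBCIso hc).hom.app (big F) ≫ (EtCoh.push f').map (iF F g').hom) := by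
    rw [cmpSmall]
    simp
  rw [e]
  infer_instance

theorem isIso_cmp [IsFinite f] : IsIso (cmp f F) := by
  haveI : IsIso ((sheafToPresheaf _ AddCommGrpCat.{u + 1}).map (cmp f F)) := by
    haveI : ∀ U : (Over Y)ᵒᵖ, IsIso ((cmp f F).hom.app U) := fun U => by
      haveI := isIso_cmp_resEtAlong f F (IsPullback.of_hasPullback f U.unop.hom)
      have h : IsIso (((sheafToPresheaf _ AddCommGrpCat.{u + 1}).map
        ((BigSite.resEtAlong ét U.unop.hom).map (cmp f F))).app (op (EtCoh.top U.unop.left))) := inferInstance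
      exact ((MorphismProperty.isomorphisms _).arrow_mk_iso_iff
        (Arrow.isoMk ((big ((EtCoh.push f).obj F)).obj.mapIso (topIso U.unop).op)
          (((BigSite.pushBig ét f AddCommGrpCat.{u + 1}).obj (big F)).obj.mapIso (topIso U.unop).op)
          ((cmp f F).hom.naturality (topIso U.unop).hom.op))).2 h
    exact @NatIso.isIso_of_isIso_app _ _ _ _ _ _ _ this
  exact isIso_of_reflects_iso _ (sheafToPresheaf _ AddCommGrpCat.{u + 1})

theorem isZero_RpushBig [IsFinite f] (G : BigSite.Ab ét X) (q : ℕ) :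
    IsZero ((BigSite.RpushBig ét f (q + 1)).obj G) := by
  refine (IsZero.iff_id_eq_zero _).2 ?_
  refine CategoryTheory.Sheaf.hom_ext (NatTrans.ext (funext fun U => AddCommGrpCat.ext fun s => ?_))
  let Z := (BigSite.RpushBig ét f (q + 1)).obj G
  have c := IsPullback.of_hasPullback f U.unop.hom
  haveI : IsFinite (pullback.snd f U.unop.hom) := MorphismProperty.of_isPullback c ‹_›
  have h0 : IsZero ((BigSite.resEtAlong ét U.unop.hom).obj Z) :=
    (EtSh.isZero_Rpush (pullback.snd f U.unop.hom) _ q).of_iso (smallDerivedBC c G (q + 1))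
  have h1 : IsZero (Z.obj.obj (op ((Over.map U.unop.hom).obj ((EtFppf.a U.unop.left).obj (EtCoh.top U.unop.left))))) :=
    (sheafToPresheaf _ AddCommGrpCat.{u + 1} ⋙ (evaluation _ _).obj (op (EtCoh.top U.unop.left))).map_isZero h0
  have h2 : IsZero (Z.obj.obj U) := h1.of_iso (Z.obj.mapIso (topIso U.unop).op)
  exact @Subsingleton.elim _ (AddCommGrpCat.subsingleton_of_isZero h2) _ _

theorem nonempty_finite_iso [IsFinite f] (q : ℕ) :
    Nonempty ((BigSite.piEtPull ét Y).obj ((EtCoh.Rpush f q).obj F) ≅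
      (BigSite.RpushBig ét f q).obj ((BigSite.piEtPull ét X).obj F)) := by
  cases q with
  | zero =>
    haveI := isIso_cmp f F
    haveI : PreservesFiniteLimits (EtCoh.push f) :=
      haveI := (EtCoh.pullPushAdj f).rightAdjoint_preservesLimits
      PreservesLimitsOfSize.preservesFiniteLimits.{0, 0} _
    haveI : PreservesFiniteLimits (BigSite.pushBig ét f AddCommGrpCat.{u + 1}) :=
      haveI := (BigSite.bigAdj ét f AddCommGrpCat.{u + 1}).rightAdjoint_preservesLimits
      PreservesLimitsOfSize.preservesFiniteLimits.{0, 0} _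
    exact ⟨(BigSite.piEtPull ét Y).mapIso ((EtCoh.push f).rightDerivedZeroIsoSelf.app F) ≪≫ asIso (cmp f F) ≪≫
      ((BigSite.pushBig ét f AddCommGrpCat.{u + 1}).rightDerivedZeroIsoSelf.app (big F)).symm⟩
  | succ q =>
    exact ⟨IsZero.iso ((BigSite.piEtPull ét Y).map_isZero (EtSh.isZero_Rpush f F q)) (isZero_RpushBig f _ q)⟩

end Groth.Agent.BigEt
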