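import Groth.Agent.BigEt.Finite
import Groth.Agent.BigEt.EdgeMono
import Groth.Agent.S1375
import Groth.Agent.RDerLES.LES
import Mathlib.AlgebraicGeometry.ZariskisMainTheorem
import Mathlib.CategoryTheory.Adjunction.FullyFaithful

/-! # Comparison of the big fppf and the big etale topologies -/

set_option autoImplicit false
set_option linter.all false
set_option backward.isDefEq.respectTransparency false
set_option backward.defeqAttrib.useBackward true

noncomputable section

universe u

open CategoryTheory CategoryTheory.Limits AlgebraicGeometry Opposite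

namespace Groth.Agent.BigEt

local notation "ét" => Scheme.etalePrecoverage
local notation "fp" => Scheme.fppfPrecoverage

/-- Around a point in the image of a flat finitely presented map, an etale neighbourhood has a finite
surjection factoring through the map. -/
theorem exists_etale_finite {W S : Scheme.{u}} (g : W ⟶ S) [Flat g] [LocallyOfFinitePresentation g] (w : W) :
    ∃ (U : Scheme.{u}) (e : U ⟶ S) (u : U) (U' : Scheme.{u}) (p : U' ⟶ U) (r : U' ⟶ W),
      Etale e ∧ e.base u = g.base w ∧ IsFinite p ∧ Surjective p ∧ r ≫ g = p ≫ e := by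
  let O₀ : S.Opens := ⟨Set.range g.base, g.isOpenMap.isOpen_range⟩
  let g₀ := g ∣_ O₀
  haveI : Surjective g₀ := ⟨fun s => by
    obtain ⟨x, hx⟩ := s.2
    exact ⟨⟨x, show g.base x ∈ (O₀ : Set S) from ⟨x, rfl⟩⟩, Subtype.ext ((congrArg Subtype.val (by
      rfl : g₀.base ⟨x, _⟩ = g₀.base ⟨x, _⟩)).trans ((morphismRestrict_base_coe g O₀ _).trans hx))⟩⟩
  haveI : Flat g₀ := IsZariskiLocalAtTarget.restrict (P := @Flat) ‹Flat g› O₀
  haveI : LocallyOfFinitePresentation g₀ :=
    IsZariskiLocalAtTarget.restrict (P := @LocallyOfFinitePresentation) ‹LocallyOfFinitePresentation g› O₀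
  obtain ⟨T, h, _, _, _, _, hfac⟩ := S1375.result g₀
  obtain ⟨x, hx⟩ := h.surjective ⟨g.base w, w, rfl⟩
  obtain ⟨V, r, hxV, hr⟩ := hfac x
  obtain ⟨A, hA, hxA, hAV⟩ : ∃ A : T.Opens, IsAffineOpen A ∧ x ∈ A ∧ A ≤ V := by
    obtain ⟨_, ⟨A, hA, rfl⟩, hxA, hAV⟩ := T.isBasis_affineOpens.exists_subset_of_mem_open hxV V.2
    exact ⟨A, hA, hxA, hAV⟩
  haveI : IsAffine (A : Scheme.{u}) := hA
  let f : (A : Scheme.{u}) ⟶ S := A.ι ≫ h ≫ O₀.ι
  haveI : IsSeparated f := inferInstance
  haveI : LocallyQuasiFinite f := inferInstance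
  have hfx : f.base ⟨x, hxA⟩ = g.base w := congrArg Subtype.val hx
  obtain ⟨U, e, he, -, P, P', v, hcompl, hfin, hv⟩ :=
    exists_etale_isCompl_of_quasiFiniteAt f hfx (f.quasiFiniteAt _)
  let q : (P : Scheme.{u}) ⟶ U := P.ι ≫ pullback.snd f e
  haveI : IsFinite q := hfin
  haveI : Flat q := inferInstance
  haveI : LocallyOfFinitePresentation q := inferInstance
  let O₁ : U.Opens := ⟨Set.range q.base, q.isOpenMap.isOpen_range⟩
  let q₁ := q ∣_ O₁
  refine ⟨O₁, O₁.ι ≫ e, ⟨q.base v, v, rfl⟩, _, q₁,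
    (q ⁻¹ᵁ O₁).ι ≫ P.ι ≫ pullback.fst f e ≫ T.homOfLE hAV ≫ r ≫ (g ⁻¹ᵁ O₀).ι, inferInstance, ?_,
    IsZariskiLocalAtTarget.restrict (P := @IsFinite) hfin O₁, ⟨fun s => ?_⟩, ?_⟩
  · show (P.ι ≫ pullback.snd f e ≫ e).base v = g.base w
    rw [← pullback.condition]
    show f.base ((pullback.fst f e).base v.1) = g.base w
    rw [hv, hfx]
  · obtain ⟨y, hy⟩ := s.2
    exact ⟨⟨y, show q.base y ∈ (O₁ : Set U) from ⟨y, rfl⟩⟩, Subtype.ext ((morphismRestrict_base_coe q O₁ _).trans hy)⟩
  · have e1 : (g ⁻¹ᵁ O₀).ι ≫ g = g₀ ≫ O₀.ι := (morphismRestrict_ι g O₀).symm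
    have e2 : T.homOfLE hAV ≫ V.ι = A.ι := T.homOfLE_ι hAV
    simp only [Category.assoc, e1, reassoc_of% hr, reassoc_of% e2]
    rw [show pullback.fst f e ≫ A.ι ≫ h ≫ O₀.ι = pullback.snd f e ≫ e from pullback.condition]
    exact (morphismRestrict_ι_assoc q O₁ e).symm.trans (by rfl) |>.trans (by rfl)

section Eps

variable (S : Scheme.{u})

/-- fppf sheaves as big etale sheaves -/
abbrev epsS : EtFppf.AbF S ⥤ BigSite.Ab ét S := BigSite.eps ét fp S AddCommGrpCat.{u + 1}

/-- fppf sheafification of a big etale sheaf -/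
abbrev epsL : BigSite.Ab ét S ⥤ EtFppf.AbF S := BigSite.epsPull ét fp S

/-- the adjunction -/
abbrev epsAdj : epsL S ⊣ epsS S :=
  (𝟭 (Over S)).sheafAdjunctionContinuous AddCommGrpCat.{u + 1} (QuotSh.J ét S) (QuotSh.J fp S)

instance epsS_full : (epsS S).Full := ⟨fun φ => ⟨⟨φ.hom⟩, rfl⟩⟩

instance epsS_faithful : (epsS S).Faithful :=
  ⟨fun {X Y} _ _ h => CategoryTheory.Sheaf.hom_ext
    (congrArg (fun m : (epsS S).obj X ⟶ (epsS S).obj Y => m.hom) h)⟩

instance epsS_preservesFiniteLimits : PreservesFiniteLimits (epsS S) :=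
  haveI := (epsAdj S).rightAdjoint_preservesLimits
  PreservesLimitsOfSize.preservesFiniteLimits.{0, 0} _

instance epsS_additive : (epsS S).Additive := Functor.additive_of_preserves_binary_products _

instance epsL_additive : (epsL S).Additive := (epsAdj S).left_adjoint_additive

instance epsL_preservesFiniteColimits : PreservesFiniteColimits (epsL S) :=
  haveI := (epsAdj S).leftAdjoint_preservesColimits
  PreservesColimitsOfSize.preservesFiniteColimits.{0, 0} _

instance epsL_preservesFiniteLimits : PreservesFiniteLimits (epsL S) := by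
  haveI : RepresentablyFlat (𝟭 (Over S)) := RepresentablyFlat.of_isRightAdjoint _
  haveI : PreservesFiniteLimits ((𝟭 (Over S)).op.lan : (_ ⥤ (Over S)ᵒᵖ ⥤ AddCommGrpCat.{u + 1})) :=
    AnPts.lan_preservesFiniteLimits_of_flat_asSmall.{u + 1} (𝟭 (Over S))
  exact Functor.sheafPullbackConstruction.preservesFiniteLimits _ _ _ _

/-- fppf sheafification of an fppf sheaf -/
def epsCounitIso : epsS S ⋙ epsL S ≅ 𝟭 (EtFppf.AbF S) := asIso (epsAdj S).counit

/-- the unit is invertible on fppf sheaves -/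
lemma isIso_eps_unit (Y : EtFppf.AbF S) : IsIso ((epsAdj S).unit.app ((epsS S).obj Y)) := by
  haveI : IsIso ((epsAdj S).unit.app ((epsS S).obj Y) ≫ (epsS S).map ((epsAdj S).counit.app Y)) := by
    rw [(epsAdj S).right_triangle_components Y]
    exact IsIso.id _
  exact IsIso.of_isIso_comp_right _ ((epsS S).map ((epsAdj S).counit.app Y))

/-- the pullback to the big etale site as an fppf sheaf is its sheafification -/
def epsBigIso (F : EtCoh.Ab S) : (epsL S).obj (big F) ≅ bigFppf F := (epsCounitIso S).app (bigFppf F)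

variable {S}

/-- sections of the higher derived functors of `ε` are fppf locally zero -/
theorem locally_zero (X : EtFppf.AbF S) (q : ℕ) {V : Over S}
    (s : (((epsS S).rightDerived (q + 1)).obj X).obj.obj (op V)) :
    Presheaf.equalizerSieve s 0 ∈ QuotSh.J fp S V := by
  let Z := ((epsS S).rightDerived (q + 1)).obj X
  have h0 : IsZero ((epsL S).obj Z) := by
    refine IsZero.of_iso ?_ (rightDerivedCompExact (epsS S) (epsL S) (q + 1) X).symm
    exact (isZero_rightDerived_of_exact (𝟭 (EtFppf.AbF S)) X q).of_iso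
      ((rightDerivedCongr (epsCounitIso S) (q + 1)).app X)
  let G : EtFppf.AbF S := (presheafToSheaf (QuotSh.J fp S) AddCommGrpCat.{u + 1}).obj Z.obj
  let φ : Z ⟶ (epsS S).obj G := ⟨toSheafify (QuotSh.J fp S) Z.obj⟩
  have hφ : φ = 0 := by
    rw [← ((epsAdj S).homEquiv Z G).apply_symm_apply φ, h0.eq_of_src (((epsAdj S).homEquiv Z G).symm φ) 0]
    simp [Adjunction.homEquiv_unit]
  have hs : (toSheafify (QuotSh.J fp S) Z.obj).app (op V) s = (toSheafify (QuotSh.J fp S) Z.obj).app (op V) 0 := by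
    have e : toSheafify (QuotSh.J fp S) Z.obj = 0 :=
      congrArg (fun m : Z ⟶ (epsS S).obj G => m.hom) hφ
    rw [e]; rfl
  exact Presheaf.equalizerSieve_mem (QuotSh.J fp S) _ _ _ hs

end Eps

section Local

variable {S : Scheme.{u}}

/-- sections of a big etale sheaf vanishing etale locally vanish -/
theorem eq_zero_of_local (Z : BigSite.Ab ét S) {T : Over S} (s : Z.obj.obj (op T))
    (h : ∀ x : T.left, ∃ (U : T.left.Etale) (u : U.left), U.hom.base u = x ∧ Z.obj.map (emb T U).op s = 0) :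
    s = 0 := by
  let G := (BigSite.resEtAlong ét T.hom).obj Z
  suffices Z.obj.map (emb T (EtCoh.top T.left)).op s = 0 by
    have h2 := congrArg (Z.obj.map (embInv T).op) this
    rw [map_zero] at h2
    refine Eq.trans ?_ h2
    rw [← ConcreteCategory.comp_apply, ← Z.obj.map_comp, ← op_comp, embInv_emb, op_id, Z.obj.map_id]
    rfl
  refine EtSh.sect_ext G (U := EtCoh.top T.left) fun x => ?_
  obtain ⟨U, u, hu, e⟩ := h x
  let g : U ⟶ EtCoh.top T.left := MorphismProperty.Over.homMk U.hom (Category.comp_id _)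
  refine ⟨U, g, u, hu, ?_⟩
  rw [map_zero]
  show Z.obj.map ((Over.map T.hom).map ((EtFppf.a T.left).map g)).op (Z.obj.map (emb T (EtCoh.top T.left)).op s) = 0
  rw [← ConcreteCategory.comp_apply, ← Z.obj.map_comp, ← op_comp, map_emb, e]

variable {T : Scheme.{u}} (f : T ⟶ S)

/-- restriction commutes with `ε` -/
def epsPullBigIso : epsS S ⋙ BigSite.pullBig ét f AddCommGrpCat.{u + 1} ≅
    BigSite.pullBig fp f AddCommGrpCat.{u + 1} ⋙ epsS T := Iso.refl _

/-- restriction of the pullback, as fppf sheaves -/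
def bigFppfPullIso (F : EtCoh.Ab S) :
    (BigSite.pullBig fp f AddCommGrpCat.{u + 1}).obj (bigFppf F) ≅ bigFppf ((EtCoh.pull f).obj F) :=
  (epsS T).preimageIso ((pullCompIso f).app F)

/-- derived functors of `ε` commute with restriction -/
def derivedEpsPullIso (X : EtFppf.AbF S) (q : ℕ) :
    (BigSite.pullBig ét f AddCommGrpCat.{u + 1}).obj (((epsS S).rightDerived q).obj X) ≅
      ((epsS T).rightDerived q).obj ((BigSite.pullBig fp f AddCommGrpCat.{u + 1}).obj X) :=
  (rightDerivedCompExact (epsS S) (BigSite.pullBig ét f AddCommGrpCat.{u + 1}) q X).symm ≪≫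
    (rightDerivedCongr (epsPullBigIso f) q).app X ≪≫
      rightDerivedExactComp (BigSite.pullBig fp f AddCommGrpCat.{u + 1}) (epsS T) q X

end Local

section Main

variable {U U' : Scheme.{u}} (p : U' ⟶ U)

instance pushBig_preservesFiniteLimits (K : Precoverage Scheme.{u}) :
    PreservesFiniteLimits (BigSite.pushBig K p AddCommGrpCat.{u + 1}) :=
  haveI := (BigSite.bigAdj K p AddCommGrpCat.{u + 1}).rightAdjoint_preservesLimits
  PreservesLimitsOfSize.preservesFiniteLimits.{0, 0} _

/-- direct image along a finite morphism is exact on the big etale site -/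
theorem pushBig_preservesFiniteColimits [IsFinite p] :
    PreservesFiniteColimits (BigSite.pushBig ét p AddCommGrpCat.{u + 1}) := by
  refine ((Functor.preservesFiniteColimits_tfae _).out 0 3).1
    (show ∀ S : ShortComplex (BigSite.Ab ét U'), S.ShortExact → _ from fun S hS => ?_)
  have h := CompDerived.shortExact_map (BigSite.pushBig ét p AddCommGrpCat.{u + 1}) hS (isZero_RpushBig p S.X₁ 0)
  exact ⟨h.exact, h.epi_g⟩

/-- the direct image on fppf sheaves through the etale site -/
def pushFpIso : BigSite.pushBig fp p AddCommGrpCat.{u + 1} ≅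
    (epsS U' ⋙ BigSite.pushBig ét p AddCommGrpCat.{u + 1}) ⋙ epsL U :=
  (Functor.rightUnitor _).symm ≪≫ Functor.isoWhiskerLeft (BigSite.pushBig fp p AddCommGrpCat.{u + 1}) (epsCounitIso U).symm ≪≫
    (Functor.associator _ _ _).symm ≪≫
      Functor.isoWhiskerRight (Iso.refl _ : BigSite.pushBig fp p AddCommGrpCat.{u + 1} ⋙ epsS U ≅
        epsS U' ⋙ BigSite.pushBig ét p AddCommGrpCat.{u + 1}) (epsL U)

/-- higher fppf direct images of finite morphisms -/
theorem isZero_RpushFp [IsFinite p] (X : EtFppf.AbF U') (j : ℕ)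
    (h : IsZero (((epsS U').rightDerived j).obj X)) :
    IsZero (((BigSite.pushBig fp p AddCommGrpCat.{u + 1}).rightDerived j).obj X) := by
  haveI := pushBig_preservesFiniteColimits p
  refine IsZero.of_iso ?_ ((rightDerivedCongr (pushFpIso p) j).app X)
  refine IsZero.of_iso ?_ (rightDerivedCompExact (epsS U' ⋙ BigSite.pushBig ét p AddCommGrpCat.{u + 1}) (epsL U) j X)
  exact (epsL U).map_isZero (((BigSite.pushBig ét p AddCommGrpCat.{u + 1}).map_isZero h).of_iso
    (rightDerivedCompExact (epsS U') (BigSite.pushBig ét p AddCommGrpCat.{u + 1}) j X))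

theorem injective_eps_pushBig (J : EtFppf.AbF U') (hJ : Injective J) (k : ℕ) :
    IsZero (((epsS U).rightDerived (k + 1)).obj ((BigSite.pushBig fp p AddCommGrpCat.{u + 1}).obj J)) := by
  haveI : (BigSite.pullBig fp p AddCommGrpCat.{u + 1}).PreservesMonomorphisms :=
    preservesMonomorphisms_of_preservesLimitsOfShape _
  haveI : Injective J := hJ
  haveI : Injective ((BigSite.pushBig fp p AddCommGrpCat.{u + 1}).obj J) :=
    Injective.injective_of_adjoint (BigSite.bigAdj fp p AddCommGrpCat.{u + 1}) J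
  exact (epsS U).isZero_rightDerived_obj_injective_succ k _

/-- a sheaf pushed forward along `p` has injective restrictions along the base change by `p` -/
theorem pushBig_res_injective (N : BigSite.Ab ét U') :
    Function.Injective (((BigSite.pushBig ét p AddCommGrpCat.{u + 1}).obj N).obj.map
      (Over.homMk p (Category.comp_id _) : Over.mk p ⟶ Over.mk (𝟙 U)).op) := by
  let h : Over.mk p ⟶ Over.mk (𝟙 U) := Over.homMk p (Category.comp_id _)
  let m : Over.mk (𝟙 U') ⟶ (Over.pullback p).obj (Over.mk p) :=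
    Over.homMk (pullback.lift (𝟙 U') (𝟙 U') rfl) (pullback.lift_snd _ _ _)
  let r : (Over.pullback p).obj (Over.mk (𝟙 U)) ⟶ Over.mk (𝟙 U') :=
    Over.homMk (pullback.snd (𝟙 U) p) (Category.comp_id _)
  have hrm : r ≫ m ≫ (Over.pullback p).map h = 𝟙 _ := by
    refine Over.OverMorphism.ext ?_
    apply pullback.hom_ext
    · have := pullback.condition (f := 𝟙 U) (g := p)
      simp [r, m, h] at this ⊢
      exact this.symm
    · simp [r, m, h]
  intro a b hab
  have e : ∀ z : N.obj.obj (op ((Over.pullback p).obj (Over.mk (𝟙 U)))),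
      N.obj.map r.op (N.obj.map m.op (N.obj.map ((Over.pullback p).map h).op z)) = z := fun z => by
    rw [← ConcreteCategory.comp_apply, ← ConcreteCategory.comp_apply, ← N.obj.map_comp, ← N.obj.map_comp,
      ← op_comp, ← op_comp, Category.assoc, hrm, op_id, N.obj.map_id]
    rfl
  exact (e a).symm.trans ((congrArg (fun z => N.obj.map r.op (N.obj.map m.op z)) hab).trans (e b))

variable (G : EtCoh.Ab U)

theorem mono_unit [IsFinite p] [Surjective p] : Mono ((EtCoh.pullPushAdj p).unit.app G) := by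
  refine EtSh.mono_of_stalk_exists _ fun y => ?_
  obtain ⟨K, _, _, η, hη⟩ := Groth.Agent.Weighting.exists_geomPoint y
  refine ⟨K, inferInstance, inferInstance, η, (congrArg η.base (Subsingleton.elim _ _)).trans hη, ?_⟩
  refine (injective_iff_map_eq_zero ((EtCoh.stalk η).map ((EtCoh.pullPushAdj p).unit.app G)).hom).2 fun q hq => ?_
  obtain ⟨V, v, r, rfl⟩ := EtSh.germ_surjective G q
  obtain ⟨x, hx⟩ := Surjective.surj (f := p) (Groth.Agent.Weighting.pt η)
  obtain ⟨⟨ξ, hξ⟩, -⟩ := Groth.Agent.Weighting.exists_lift p η x hx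
  subst hξ
  have hq' : EtSh.germ (ξ ≫ p) ((EtCoh.push p).obj ((EtCoh.pull p).obj G)) v
      (((EtCoh.pullPushAdj p).unit.app G).hom.app (op V) r) = 0 := by
    exact (EtSh.stalk_map_germ _ v r).symm.trans hq
  have h1 := congrArg (EtSh.pushComp p ((EtCoh.pull p).obj G) ⟨ξ, rfl⟩) hq'
  erw [EtSh.pushComp_germ, map_zero] at h1
  apply ((ConcreteCategory.isIso_iff_bijective ((EtSh.stalkPullIso p ξ).inv.app G)).1 inferInstance).1
  rw [map_zero, EtSh.stalkPullIso_inv_germ]
  exact h1

/-- the unit sequence -/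
def unitSeq : ShortComplex (EtCoh.Ab U) :=
  ShortComplex.mk ((EtCoh.pullPushAdj p).unit.app G) (cokernel.π _) (cokernel.condition _)

/-- the unit sequence on the fppf site -/
def unitSeqFp : ShortComplex (EtFppf.AbF U) :=
  ((unitSeq p G).map (BigSite.piEtPull ét U)).map (epsL U)

/-- the middle term -/
def unitSeqMidIso [IsFinite p] : (unitSeqFp p G).X₂ ≅
    (BigSite.pushBig fp p AddCommGrpCat.{u + 1}).obj (bigFppf ((EtCoh.pull p).obj G)) :=
  haveI := isIso_cmp p ((EtCoh.pull p).obj G)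
  (epsL U).mapIso (asIso (cmp p ((EtCoh.pull p).obj G))) ≪≫
    (epsCounitIso U).app ((BigSite.pushBig fp p AddCommGrpCat.{u + 1}).obj (bigFppf ((EtCoh.pull p).obj G)))

/-- the vanishing, in degree `q + 1` -/
abbrev Vanish (q : ℕ) : Prop :=
  ∀ (S : Scheme.{u}) (F : EtCoh.Ab S), IsZero (((epsS S).rightDerived (q + 1)).obj (bigFppf F))

theorem exists_mono_unit [IsFinite p] [Surjective p] (q : ℕ) (ih : ∀ j, j < q → Vanish.{u} j) :
    ∃ (N : BigSite.Ab ét U') (m : ((epsS U).rightDerived (q + 1)).obj (bigFppf G) ⟶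
      (BigSite.pushBig ét p AddCommGrpCat.{u + 1}).obj N), Mono m := by
  haveI := mono_unit p G
  haveI := pushBig_preservesFiniteColimits p
  have hu : (unitSeq p G).ShortExact :=
    { exact := ShortComplex.exact_cokernel _
      mono_f := inferInstanceAs (Mono ((EtCoh.pullPushAdj p).unit.app G))
      epi_g := inferInstanceAs (Epi (cokernel.π _)) }
  have hE := hu.map_of_exact (BigSite.piEtPull ét U)
  have hS : (unitSeqFp p G).ShortExact := hE.map_of_exact (epsL U)
  have Δ := RDerLES.derivedLES (epsS U)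
  have hδ : Δ.δ (unitSeqFp p G) hS q (q + 1) rfl = 0 := by
    cases q with
    | zero =>
      haveI : Epi ((epsS U).map (unitSeqFp p G).g) := by
        haveI := hE.epi_g
        let A := ((unitSeq p G).map (BigSite.piEtPull ét U)).X₃
        haveI : IsIso ((epsAdj U).unit.app A) := isIso_eps_unit U (bigFppf (unitSeq p G).X₃)
        have e := (epsAdj U).unit.naturality ((unitSeq p G).map (BigSite.piEtPull ét U)).g
        exact epi_of_epi_fac e.symm
      haveI : Epi (((epsS U).rightDerived 0).map (unitSeqFp p G).g) := by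
        have e := (epsS U).rightDerivedZeroIsoSelf.hom.naturality (unitSeqFp p G).g
        rw [← IsIso.eq_comp_inv] at e
        rw [e]
        infer_instance
      exact Limits.zero_of_epi_comp (((epsS U).rightDerived 0).map (unitSeqFp p G).g)
        (Δ.comp_δ (unitSeqFp p G) hS 0 1 rfl)
    | succ k =>
      exact ((ih k (Nat.lt_succ_self k) U (unitSeq p G).X₃).of_iso
        (((epsS U).rightDerived (k + 1)).mapIso (epsBigIso U (unitSeq p G).X₃))).eq_of_src _ _
  haveI : Mono (((epsS U).rightDerived (q + 1)).map (unitSeqFp p G).f) :=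
    (Δ.exact₁ (unitSeqFp p G) hS q (q + 1) rfl).mono_g hδ
  let Q' := bigFppf ((EtCoh.pull p).obj G)
  obtain ⟨e, he⟩ := exists_edge_mono (BigSite.pushBig fp p AddCommGrpCat.{u + 1}) (epsS U)
    (injective_eps_pushBig p) q Q' (fun j hj => isZero_RpushFp p Q' (j + 1) (ih j hj U' _))
  let c : ((BigSite.pushBig fp p AddCommGrpCat.{u + 1} ⋙ epsS U).rightDerived (q + 1)).obj Q' ≅
      (BigSite.pushBig ét p AddCommGrpCat.{u + 1}).obj (((epsS U').rightDerived (q + 1)).obj Q') :=
    (rightDerivedCongr (Iso.refl _ : BigSite.pushBig fp p AddCommGrpCat.{u + 1} ⋙ epsS U ≅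
        epsS U' ⋙ BigSite.pushBig ét p AddCommGrpCat.{u + 1}) (q + 1)).app Q' ≪≫
      rightDerivedCompExact (epsS U') (BigSite.pushBig ét p AddCommGrpCat.{u + 1}) (q + 1) Q'
  exact ⟨_, ((epsS U).rightDerived (q + 1)).map ((epsBigIso U G).inv) ≫
    ((epsS U).rightDerived (q + 1)).map (unitSeqFp p G).f ≫
      (((epsS U).rightDerived (q + 1)).mapIso (unitSeqMidIso p G)).hom ≫ e ≫ c.hom, inferInstance⟩

/-- a class killed by a finite surjection is zero -/
theorem eq_zero_of_finite [IsFinite p] [Surjective p] (q : ℕ) (ih : ∀ j, j < q → Vanish.{u} j)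
    (s : (((epsS U).rightDerived (q + 1)).obj (bigFppf G)).obj.obj (op (Over.mk (𝟙 U))))
    (hs : (((epsS U).rightDerived (q + 1)).obj (bigFppf G)).obj.map
      (Over.homMk p (Category.comp_id _) : Over.mk p ⟶ Over.mk (𝟙 U)).op s = 0) : s = 0 := by
  obtain ⟨N, m, hm⟩ := exists_mono_unit p G q ih
  have hinj : Function.Injective (m.hom.app (op (Over.mk (𝟙 U)))) := by
    haveI := hm
    exact (AddCommGrpCat.mono_iff_injective _).1
      (inferInstanceAs (Mono (((sheafToPresheaf _ AddCommGrpCat.{u + 1}).map m).app _)))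
  refine hinj (Eq.trans ?_ (map_zero _).symm)
  refine pushBig_res_injective p N (Eq.trans ?_ (map_zero _).symm)
  refine (NatTrans.naturality_apply m.hom _ s).symm.trans ?_
  rw [hs, map_zero]

end Main

/-- The pullback of an etale sheaf has no higher derived images from the fppf to the etale topology. -/
theorem vanish : ∀ q, Vanish.{u} q := by
  intro q
  induction q using Nat.strong_induction_on with
  | _ q ih =>
  intro S F
  let Z := ((epsS S).rightDerived (q + 1)).obj (bigFppf F)
  refine (IsZero.iff_id_eq_zero _).2 ?_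
  refine CategoryTheory.Sheaf.hom_ext (NatTrans.ext (funext fun V => AddCommGrpCat.ext fun s => ?_))
  obtain ⟨V⟩ := V
  show s = 0
  refine eq_zero_of_local Z s fun x => ?_
  have hR := locally_zero (bigFppf F) q s
  rw [GrothendieckTopology.mem_over_iff] at hR
  haveI : (@Flat ⊓ @LocallyOfFinitePresentation : MorphismProperty Scheme.{u}).ContainsIdentities :=
    ⟨fun X => ⟨(inferInstance : Flat (𝟙 X)), (inferInstance : LocallyOfFinitePresentation (𝟙 X))⟩⟩
  haveI : (@Flat ⊓ @LocallyOfFinitePresentation : MorphismProperty Scheme.{u}).RespectsIso := inferInstance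
  obtain ⟨R', hR', hle⟩ := (Precoverage.mem_toGrothendieck_iff_of_isStableUnderComposition
    (J := Scheme.precoverage (@Flat ⊓ @LocallyOfFinitePresentation : MorphismProperty Scheme.{u}))).1 hR
  obtain ⟨W, g, hg, hgP, w, hw⟩ : ∃ (W : Scheme.{u}) (g : W ⟶ V.left), R' g ∧
      (Flat g ∧ LocallyOfFinitePresentation g) ∧ ∃ w : W, g.base w = x := by
    have e : R' = Presieve.ofArrows (fun k : (Σ Z : Scheme.{u}, {g : Z ⟶ V.left // R' g}) => k.1) (fun k => k.2.1) := by
      funext Z
      ext g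
      refine ⟨fun h => Presieve.ofArrows.mk (⟨Z, g, h⟩ : Σ Z : Scheme.{u}, {g : Z ⟶ V.left // R' g}), ?_⟩
      rintro ⟨k⟩; exact k.2.2
    have h := (Scheme.ofArrows_mem_precoverage_iff _).1 (e ▸ hR')
    obtain ⟨⟨W, g, hg⟩, w, hw⟩ := h.1 x
    exact ⟨W, g, hg, h.2 ⟨W, g, hg⟩, w, hw⟩
  haveI := hgP.1
  haveI := hgP.2
  obtain ⟨U, e, u, U', p, r, he, heu, hp, hps, hr⟩ := exists_etale_finite g w
  let UE : V.left.Etale := MorphismProperty.Over.mk ⊤ e he
  refine ⟨UE, u, heu.trans hw, ?_⟩
  let f : U ⟶ S := e ≫ V.hom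
  let i : (BigSite.pullBig ét f AddCommGrpCat.{u + 1}).obj Z ≅
      ((epsS U).rightDerived (q + 1)).obj (bigFppf ((EtCoh.pull f).obj F)) :=
    derivedEpsPullIso f (bigFppf F) (q + 1) ≪≫ ((epsS U).rightDerived (q + 1)).mapIso (bigFppfPullIso f F)
  let τ : (Over.map f).obj (Over.mk (𝟙 U)) ⟶ (Over.map V.hom).obj ((EtFppf.a V.left).obj UE) :=
    Over.homMk (𝟙 U) rfl
  let τ' : (Over.map V.hom).obj ((EtFppf.a V.left).obj UE) ⟶ (Over.map f).obj (Over.mk (𝟙 U)) :=
    Over.homMk (𝟙 U) (by show 𝟙 U ≫ 𝟙 U ≫ f = f; simp)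
  let z := Z.obj.map (τ ≫ emb V UE).op s
  have hp' : Z.obj.map ((Over.map f).map (Over.homMk p (Category.comp_id _) : Over.mk p ⟶ Over.mk (𝟙 U))).op z = 0 := by
    rw [← ConcreteCategory.comp_apply, ← Z.obj.map_comp, ← op_comp]
    let W₀ : Over S := Over.mk (g ≫ V.hom)
    let cW : W₀ ⟶ V := Over.homMk g rfl
    let rW : (Over.map f).obj (Over.mk p) ⟶ W₀ := Over.homMk r (by
      show r ≫ g ≫ V.hom = p ≫ e ≫ V.hom
      rw [← Category.assoc, hr, Category.assoc])
    have hc : Z.obj.map cW.op s = 0 := by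
      have h := (Sieve.overEquiv_iff _ g).1 (hle _ _ hg)
      have h' : Z.obj.map cW.op s = Z.obj.map cW.op 0 := h
      rwa [map_zero] at h'
    have e1 : (Over.map f).map (Over.homMk p (Category.comp_id _) : Over.mk p ⟶ Over.mk (𝟙 U)) ≫ τ ≫ emb V UE =
        rW ≫ cW := Over.OverMorphism.ext (by
      show p ≫ 𝟙 U ≫ e = r ≫ g
      rw [Category.id_comp, hr])
    rw [e1, op_comp, Z.obj.map_comp, ConcreteCategory.comp_apply, hc, map_zero]
  have hz : z = 0 := by
    have hinj := ((ConcreteCategory.isIso_iff_bijective (i.hom.hom.app (op (Over.mk (𝟙 U))))).1 inferInstance).1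
    refine hinj (Eq.trans ?_ (map_zero _).symm)
    refine eq_zero_of_finite p ((EtCoh.pull f).obj F) q ih _ ?_
    refine (NatTrans.naturality_apply i.hom.hom _ z).symm.trans ?_
    exact (congrArg (i.hom.hom.app _) hp').trans (map_zero _)
  have e2 : τ' ≫ τ = 𝟙 _ := Over.OverMorphism.ext (Category.id_comp _)
  have h3 := congrArg (Z.obj.map τ'.op) hz
  rw [map_zero, ← ConcreteCategory.comp_apply, ← Z.obj.map_comp, ← op_comp, ← Category.assoc, e2, Category.id_comp] at h3
  exact h3

end Groth.Agent.BigEt
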