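import Groth.Agent.BigEt.Descent
import Groth.Agent.BigEt.EtVsFppf

/-! # The descent spectral sequence of an fppf covering -/

set_option autoImplicit false
set_option linter.all false
set_option backward.isDefEq.respectTransparency false
set_option backward.defeqAttrib.useBackward true

noncomputable section

universe u

open CategoryTheory CategoryTheory.Limits CategoryTheory.Abelian AlgebraicGeometry Opposite Simplicial

namespace Groth.Agent.BigEt

local notation "fp" => Scheme.fppfPrecoverage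
local notation "ét" => Scheme.etalePrecoverage

variable {X Y : Scheme.{u}} (f : X ⟶ Y)

/-- base change to `X`, seen over `Y` -/
abbrev bcY : Over Y ⥤ Over Y := Over.pullback f ⋙ Over.map f

/-- the projection -/
abbrev prY : bcY f ⟶ 𝟭 (Over Y) := (Over.mapPullbackAdj f).counit

/-- presheaf of sections over the base change -/
abbrev bcPre (T : (Over Y)ᵒᵖ ⥤ AddCommGrpCat.{u + 1}) : (Over Y)ᵒᵖ ⥤ AddCommGrpCat.{u + 1} := (bcY f).op ⋙ T

/-- restriction to the base change -/
def bcRes (T : (Over Y)ᵒᵖ ⥤ AddCommGrpCat.{u + 1}) : T ⟶ bcPre f T where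
  app A := T.map ((prY f).app A.unop).op
  naturality A B g := by
    show T.map g ≫ T.map _ = T.map _ ≫ T.map ((bcY f).map g.unop).op
    rw [← T.map_comp, ← T.map_comp]
    congr 1
    exact Quiver.Hom.unop_inj ((prY f).naturality g.unop).symm

/-- the extra degeneracy after base change -/
def jOver (p : ℕ) : (bcY f).obj ((nerve f).obj (op ⦋p⦌)) ⟶ (nerve f).obj (op ⦋p + 1⦌) :=
  Over.homMk
    (WidePullback.lift (pullback.fst (WidePullback.base (fun _ : Fin (p + 1) => f)) f ≫ WidePullback.base _)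
      (Fin.cases (pullback.snd (WidePullback.base (fun _ : Fin (p + 1) => f)) f)
        (fun i => pullback.fst (WidePullback.base (fun _ : Fin (p + 1) => f)) f ≫ WidePullback.π _ i))
      (fun i => by
        refine Fin.cases ?_ (fun i => ?_) i
        · simpa using pullback.condition.symm
        · simp))
    (by
      refine (WidePullback.lift_base ..).trans ?_
      exact pullback.condition)

/-- the extra degeneracy after base change, over the base -/
def jOver' : (bcY f).obj (Over.mk (𝟙 Y)) ⟶ (nerve f).obj (op ⦋0⦌) :=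
  Over.homMk
    (WidePullback.lift (pullback.fst (𝟙 Y) f) (fun _ => pullback.snd (𝟙 Y) f)
      (fun _ => pullback.condition.symm.trans (Category.comp_id _)))
    (by
      refine (WidePullback.lift_base ..).trans ?_
      show pullback.fst (𝟙 Y) f = pullback.snd (𝟙 Y) f ≫ f
      exact (Category.comp_id _).symm.trans pullback.condition)

/-- the map to the final object -/
abbrev toY (A : Over Y) : A ⟶ Over.mk (𝟙 Y) := Over.homMk (V := Over.mk (𝟙 Y)) A.hom (Category.comp_id _)

lemma jOver_δ₀ (p : ℕ) : jOver f p ≫ (nerve f).δ 0 = (prY f).app ((nerve f).obj (op ⦋p⦌)) := by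
  refine Over.OverMorphism.ext ?_
  apply WidePullback.hom_ext
  · intro j
    simp [jOver, nerve, SimplicialObject.δ, SimplexCategory.δ, WidePullback.lift_π]
  · simp [jOver, nerve, SimplicialObject.δ, WidePullback.lift_base]

lemma jOver_δ_succ (p : ℕ) (i : Fin (p + 2)) :
    jOver f (p + 1) ≫ (nerve f).δ i.succ = (bcY f).map ((nerve f).δ i) ≫ jOver f p := by
  refine Over.OverMorphism.ext ?_
  apply WidePullback.hom_ext
  · intro j
    refine Fin.cases ?_ (fun j => ?_) j
    · simp [jOver, nerve, SimplicialObject.δ, SimplexCategory.δ, WidePullback.lift_π]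
    · simp [jOver, nerve, SimplicialObject.δ, SimplexCategory.δ, WidePullback.lift_π, Fin.succ_succAbove_succ]
  · simp [jOver, nerve, SimplicialObject.δ, WidePullback.lift_base]

lemma jOver_δ₁ :
    jOver f 0 ≫ (nerve f).δ 1 = (bcY f).map (toY ((nerve f).obj (op ⦋0⦌))) ≫ jOver' f := by
  refine Over.OverMorphism.ext ?_
  apply WidePullback.hom_ext
  · intro j
    fin_cases j
    simp [jOver, jOver', nerve, SimplicialObject.δ, SimplexCategory.δ, WidePullback.lift_π]
  · simp [jOver, jOver', nerve, SimplicialObject.δ, WidePullback.lift_base]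

lemma jOver'_toY : jOver' f ≫ toY ((nerve f).obj (op ⦋0⦌)) = (prY f).app (Over.mk (𝟙 Y)) := by
  refine Over.OverMorphism.ext ?_
  simp [jOver', nerve, WidePullback.lift_base]

/-- a retraction of restriction to the base change makes the nerve complex exact -/
theorem augExact_of_retraction (T : (Over Y)ᵒᵖ ⥤ AddCommGrpCat.{u + 1}) (ρ : bcPre f T ⟶ T)
    (hρ : bcRes f T ≫ ρ = 𝟙 T) :
    Descent.AugExact ((nerve f).rightOp ⋙ T) (T.map (toY ((nerve f).obj (op ⦋0⦌))).op) := by
  have hret : ∀ (A : Over Y) (x : T.obj (op A)), ρ.app (op A) (T.map ((prY f).app A).op x) = x := fun A x =>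
    ConcreteCategory.congr_hom (congrArg (fun m => m.app (op A)) hρ) x
  have key : ∀ {a b c : (Over Y)} (u : a ⟶ b) (v : b ⟶ c) (x : T.obj (op c)),
      T.map u.op (T.map v.op x) = T.map (u ≫ v).op x := fun u v x =>
    (ConcreteCategory.congr_hom (T.map_comp v.op u.op) x).symm
  refine Descent.augExact_of_extraDegeneracy _ _
    ((T.map (jOver' f).op ≫ ρ.app (op (Over.mk (𝟙 Y)))).hom)
    (fun p => (T.map (jOver f p).op ≫ ρ.app (op ((nerve f).obj (op ⦋p⦌)))).hom)
    (fun y => ?_) (fun x => ?_) (fun p x => ?_) (fun p i x => ?_)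
  · show ρ.app _ (T.map (jOver' f).op (T.map (toY _).op y)) = y
    rw [key, jOver'_toY]
    exact hret _ _
  · show ρ.app (op ((nerve f).obj (op ⦋0⦌))) (T.map (jOver f 0).op (T.map ((nerve f).δ 1).op x)) =
      T.map (toY ((nerve f).obj (op ⦋0⦌))).op (ρ.app (op (Over.mk (𝟙 Y))) (T.map (jOver' f).op x))
    rw [key, jOver_δ₁, ← key]
    exact NatTrans.naturality_apply ρ (toY ((nerve f).obj (op ⦋0⦌))).op (T.map (jOver' f).op x)
  · show ρ.app (op ((nerve f).obj (op ⦋p⦌))) (T.map (jOver f p).op (T.map ((nerve f).δ 0).op x)) = x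
    rw [key, jOver_δ₀]
    exact hret _ _
  · show ρ.app (op ((nerve f).obj (op ⦋p + 1⦌))) (T.map (jOver f (p + 1)).op (T.map ((nerve f).δ i.succ).op x)) =
      T.map ((nerve f).δ i).op (ρ.app (op ((nerve f).obj (op ⦋p⦌))) (T.map (jOver f p).op x))
    rw [key, jOver_δ_succ, ← key]
    exact NatTrans.naturality_apply ρ ((nerve f).δ i).op (T.map (jOver f p).op x)

variable [Flat f] [LocallyOfFinitePresentation f] [Surjective f]

theorem mono_bigAdj_unit (I : EtFppf.AbF Y) : Mono ((BigSite.bigAdj fp f AddCommGrpCat.{u + 1}).unit.app I) := by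
  have h : ∀ A : (Over Y)ᵒᵖ, Function.Injective ((bcRes f I.obj).app A) := by
    rintro ⟨A⟩ a b hab
    let g : (bcY f).obj A ⟶ A := (prY f).app A
    have hg : Sieve.generate (Presieve.singleton g) ∈ QuotSh.J fp Y A := by
      rw [GrothendieckTopology.mem_over_iff]
      have e : Sieve.overEquiv A (Sieve.generate (Presieve.singleton g)) = Sieve.generate (Presieve.singleton g.left) := by
        rw [← Presieve.ofArrows_pUnit.{0}, ← Presieve.ofArrows_pUnit.{0}]
        exact Sieve.overEquiv_ofArrows _ _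
      rw [e]
      refine Precoverage.generate_mem_toGrothendieck ?_
      rw [← Presieve.ofArrows_pUnit.{0}]
      refine (Scheme.ofArrows_mem_precoverage_iff _).2 ⟨fun x => ⟨⟨⟩, ?_⟩, fun _ => ?_⟩
      · show x ∈ Set.range (pullback.fst A.hom f).base
        exact (pullback.fst A.hom f).surjective x
      · show Flat (pullback.fst A.hom f) ∧ LocallyOfFinitePresentation (pullback.fst A.hom f)
        exact ⟨inferInstance, inferInstance⟩
    refine (((isSheaf_iff_isSheaf_of_type _ _).1
      ((sheafCompose _ (forget AddCommGrpCat.{u + 1})).obj I).property).isSeparated _ hg).ext ?_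
    rintro Z _ ⟨W, h, _, ⟨⟩, rfl⟩
    have e := congrArg (I.obj.map h.op) hab
    show I.obj.map (h ≫ g).op a = I.obj.map (h ≫ g).op b
    rw [op_comp, I.obj.map_comp, ConcreteCategory.comp_apply, ConcreteCategory.comp_apply]
    exact e
  haveI : ∀ A, Mono ((bcRes f I.obj).app A) := fun A => (AddCommGrpCat.mono_iff_injective _).2 (h A)
  haveI : Mono ((sheafToPresheaf _ AddCommGrpCat.{u + 1}).map ((BigSite.bigAdj fp f AddCommGrpCat.{u + 1}).unit.app I)) := by
    have e : (sheafToPresheaf _ AddCommGrpCat.{u + 1}).map ((BigSite.bigAdj fp f AddCommGrpCat.{u + 1}).unit.app I) =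
        bcRes f I.obj := by
      ext A : 2
      simp [bcRes, Adjunction.whiskerLeft]
    rw [e]
    exact NatTrans.mono_of_mono_app _
  exact (sheafToPresheaf _ AddCommGrpCat.{u + 1}).mono_of_mono_map this

theorem exists_retraction (I : EtFppf.AbF Y) [Injective I] :
    ∃ ρ : bcPre f I.obj ⟶ I.obj, bcRes f I.obj ≫ ρ = 𝟙 _ := by
  haveI := mono_bigAdj_unit f I
  let u₀ := (BigSite.bigAdj fp f AddCommGrpCat.{u + 1}).unit.app I
  refine ⟨(Injective.factorThru (𝟙 I) u₀).hom, ?_⟩
  have e := congrArg (fun m : I ⟶ I => m.hom) (Injective.comp_factorThru (𝟙 I) u₀)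
  refine Eq.trans ?_ e
  show bcRes f I.obj ≫ _ = u₀.hom ≫ _
  refine congrArg (· ≫ _) ?_
  ext A : 2
  simp [bcRes, u₀, Adjunction.whiskerLeft]

variable (F : EtCoh.Ab Y)

/-- sections of an fppf injective resolution -/
def N₀ : (Over Y)ᵒᵖ ⥤ CochainComplex AddCommGrpCat.{u + 1} ℕ where
  obj T := (((sheafSections (QuotSh.J fp Y) AddCommGrpCat.{u + 1}).obj T).mapHomologicalComplex _).obj
    (injectiveResolution (bigFppf F)).cocomplex
  map g := (NatTrans.mapHomologicalComplex ((sheafSections (QuotSh.J fp Y) AddCommGrpCat.{u + 1}).map g) _).app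
    (injectiveResolution (bigFppf F)).cocomplex
  map_id T := by ext; simp
  map_comp g g' := by ext; simp

/-- sections of an fppf injective resolution, indexed by integers -/
def N : (Over Y)ᵒᵖ ⥤ CochainComplex AddCommGrpCat.{u + 1} ℤ :=
  N₀ F ⋙ ComplexShape.embeddingUpNat.extendFunctor AddCommGrpCat.{u + 1}

instance isStrictlyGE_N (T : (Over Y)ᵒᵖ) : ((N F).obj T).IsStrictlyGE 0 :=
  inferInstanceAs (CochainComplex.IsStrictlyGE (((N₀ F).obj T).extend ComplexShape.embeddingUpNat) 0)

omit [Flat f] [LocallyOfFinitePresentation f] [Surjective f] in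
theorem nonempty_H_fp (S : Scheme.{u}) (G : EtCoh.Ab S) (n : ℕ) :
    Nonempty (EtFppf.HF S (bigFppf G) n ≃+ EtCoh.H S G n) := by
  haveI := isIso_unit_ab S G
  obtain ⟨e₁⟩ := nonempty_H_resEt S (big G) n
  obtain ⟨e₂⟩ := nonempty_H_eps S G n
  exact ⟨((((EtCoh.HF S n).mapIso (asIso ((BigSite.piEtAdj ét S).unit.app G))).addCommGroupIsoToAddEquiv.trans e₁).trans e₂).symm⟩

omit [Flat f] [LocallyOfFinitePresentation f] [Surjective f] in
theorem nonempty_homology_N (T : Over Y) (n : ℕ) :
    Nonempty (((N F).obj (op T)).homology (n : ℤ) ≅ AddCommGrpCat.of (EtCoh.H T.left ((EtCoh.pull T.hom).obj F) n)) := by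
  let R := mapRes (BigSite.pullBig fp T.hom AddCommGrpCat.{u + 1}) (injectiveResolution (bigFppf F))
  obtain ⟨e⟩ := nonempty_homology_sections (J := QuotSh.J fp T.left) (Over.mkIdTerminal (X := T.left)) R n
  obtain ⟨e'⟩ := nonempty_H_fp T.left ((EtCoh.pull T.hom).obj F) n
  let s : (sheafSections (QuotSh.J fp Y) AddCommGrpCat.{u + 1}).obj (op T) ≅
      BigSite.pullBig fp T.hom AddCommGrpCat.{u + 1} ⋙
        (sheafSections (QuotSh.J fp T.left) AddCommGrpCat.{u + 1}).obj (op (Over.mk (𝟙 T.left))) :=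
    NatIso.ofComponents
      (fun P => P.obj.mapIso (Over.isoMk (Iso.refl _) (by simp) :
        (Over.map T.hom).obj (Over.mk (𝟙 T.left)) ≅ T).op)
      (fun {P Q} φ => (φ.hom.naturality _).symm)
  exact ⟨((N₀ F).obj (op T)).extendHomologyIso ComplexShape.embeddingUpNat (j := n) rfl ≪≫
    HomologicalComplex.homologyMapIso ((NatIso.mapHomologicalComplex s (ComplexShape.up ℕ)).app
      (injectiveResolution (bigFppf F)).cocomplex) n ≪≫
      e ≪≫ (extFunctorObj (constZ (QuotSh.J fp T.left)) n).mapIso (bigFppfPullIso T.hom F) ≪≫ e'.toAddCommGrpIso⟩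

omit [Flat f] [LocallyOfFinitePresentation f] [Surjective f] in
theorem nonempty_homology_N_top (n : ℕ) :
    Nonempty (((N F).obj (op (Over.mk (𝟙 Y)))).homology (n : ℤ) ≅ AddCommGrpCat.of (EtCoh.H Y F n)) := by
  obtain ⟨e⟩ := nonempty_homology_sections (J := QuotSh.J fp Y) (Over.mkIdTerminal (X := Y))
    (injectiveResolution (bigFppf F)) n
  obtain ⟨e'⟩ := nonempty_H_fp Y F n
  exact ⟨((N₀ F).obj (op (Over.mk (𝟙 Y)))).extendHomologyIso ComplexShape.embeddingUpNat (j := n) rfl ≪≫
    e ≪≫ e'.toAddCommGrpIso⟩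

/-- the cosimplicial complex -/
def nerveN : CosimplicialObject (CochainComplex AddCommGrpCat.{u + 1} ℤ) := (nerve f).rightOp ⋙ N F

/-- the augmentation -/
def nerveNAug : (N F).obj (op (Over.mk (𝟙 Y))) ⟶ (nerveN f F).obj ⦋0⦌ :=
  (N F).map (toY ((nerve f).obj (op ⦋0⦌))).op

omit [Flat f] [LocallyOfFinitePresentation f] [Surjective f] in
lemma nerveNAug_δ (i : Fin 2) :
    nerveNAug f F ≫ (nerveN f F).δ i = (N F).map (toY ((nerve f).obj (op ⦋1⦌))).op := by
  refine ((N F).map_comp _ _).symm.trans (congrArg (N F).map ?_)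
  refine congrArg Quiver.Hom.op (Over.OverMorphism.ext ?_)
  exact WidePullback.lift_base ..

theorem augExact_N (q : ℤ) : Descent.AugExact (Descent.evalDeg (nerveN f F) q) ((nerveNAug f F).f q) := by
  let T := N F ⋙ HomologicalComplex.eval _ (ComplexShape.up ℤ) q
  obtain ⟨ρ, hρ⟩ : ∃ ρ : bcPre f T ⟶ T, bcRes f T ≫ ρ = 𝟙 T := by
    by_cases hq : 0 ≤ q
    · obtain ⟨n, rfl⟩ := Int.eq_ofNat_of_zero_le hq
      let I := (injectiveResolution (bigFppf F)).cocomplex.X n
      haveI : Injective I := (injectiveResolution (bigFppf F)).injective n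
      obtain ⟨ρ₀, hρ₀⟩ := exists_retraction f I
      let e : T ≅ I.obj := NatIso.ofComponents
        (fun P => HomologicalComplex.extendXIso _ ComplexShape.embeddingUpNat (i := n) rfl)
        fun {P Q} g => by
          show (HomologicalComplex.extendMap ((N₀ F).map g) ComplexShape.embeddingUpNat).f (n : ℤ) ≫ _ = _
          refine (congrArg (· ≫ _) (HomologicalComplex.extendMap_f ((N₀ F).map g) ComplexShape.embeddingUpNat
            (i := n) (i' := (n : ℤ)) rfl)).trans ?_
          refine (Category.assoc _ _ _).trans (congrArg (_ ≫ ·) ?_)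
          exact ((Category.assoc _ _ _).trans (congrArg (_ ≫ ·) (Iso.inv_hom_id _))).trans (Category.comp_id _)
      refine ⟨Functor.whiskerLeft (bcY f).op e.hom ≫ ρ₀ ≫ e.inv, ?_⟩
      have : bcRes f T ≫ Functor.whiskerLeft (bcY f).op e.hom = e.hom ≫ bcRes f I.obj := by
        ext A : 2
        exact e.hom.naturality _
      rw [← Category.assoc, this, Category.assoc, reassoc_of% hρ₀, e.hom_inv_id]
    · refine ⟨0, ?_⟩
      ext A : 2
      exact (CochainComplex.isZero_of_isStrictlyGE ((N F).obj A) 0 q (by omega)).eq_of_src _ _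
  exact augExact_of_retraction f T ρ hρ

theorem exists_fppf_spectralSequence :
    ∃ (E : CohomologicalSpectralSequence AddCommGrpCat.{u + 1} 1)
      (a : SpSeq.Abutment E (fun n : ℤ =>
        if 0 ≤ n then AddCommGrpCat.of (EtCoh.H Y F n.toNat) else AddCommGrpCat.of PUnit.{u + 2})),
      (∀ n, a.IsFinite n) ∧ SpSeq.IsBounded E ∧
      ∀ p q : ℤ, Nonempty ((E.page 1 le_rfl).X (p, q) ≅
        (if 0 ≤ p ∧ 0 ≤ q then
          AddCommGrpCat.of (EtCoh.H (widePullback Y (fun _ : Fin (p.toNat + 1) => X) (fun _ => f))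
            ((EtCoh.pull (WidePullback.base (fun _ : Fin (p.toNat + 1) => f) :
              widePullback Y (fun _ : Fin (p.toNat + 1) => X) (fun _ => f) ⟶ Y)).obj F) q.toNat)
         else AddCommGrpCat.of PUnit.{u + 2})) := by
  refine Descent.exists_spectralSequence (nerveN f F) (fun p => isStrictlyGE_N F _) (nerveNAug f F)
    ((nerveNAug_δ f F 0).trans (nerveNAug_δ f F 1).symm) (augExact_N f F) _ (fun n => ?_)
    (fun p q => AddCommGrpCat.of (EtCoh.H (widePullback Y (fun _ : Fin (p + 1) => X) (fun _ => f))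
      ((EtCoh.pull (WidePullback.base (fun _ : Fin (p + 1) => f) :
        widePullback Y (fun _ : Fin (p + 1) => X) (fun _ => f) ⟶ Y)).obj F) q))
    (fun p q => nonempty_homology_N F ((nerve f).obj (op ⦋p⦌)) q)
    (AddCommGrpCat.of PUnit.{u + 2}) (AddCommGrpCat.isZero_of_subsingleton _)
  by_cases hn : 0 ≤ n
  · rw [if_pos hn]
    obtain ⟨n, rfl⟩ := Int.eq_ofNat_of_zero_le hn
    exact nonempty_homology_N_top F n
  · rw [if_neg hn]
    refine ⟨IsZero.iso ?_ (AddCommGrpCat.isZero_of_subsingleton _)⟩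
    exact (ShortComplex.exact_iff_isZero_homology _).1
      (ShortComplex.exact_of_isZero_X₂ _ (CochainComplex.isZero_of_isStrictlyGE ((N F).obj (op (Over.mk (𝟙 Y)))) 0 n (by omega) :))

end Groth.Agent.BigEt
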