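import Groth.Agent.BigEt.Sections
import Groth.Agent.SchDescent.Cover

/-! # The pullback to the big etale site is an fpqc sheaf -/

set_option autoImplicit false
set_option linter.all false
set_option backward.isDefEq.respectTransparency false
set_option backward.defeqAttrib.useBackward true

noncomputable section

universe w u

open CategoryTheory CategoryTheory.Limits AlgebraicGeometry Opposite

namespace Groth.Agent.BigEt

local notation "ét" => Scheme.etalePrecoverage

variable {S : Scheme.{u}} (F : EtCoh.Ab S)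

/-- comparing agreement with values at a geometric point over it -/
theorem agree_res {T T' : Over S} (g : T' ⟶ T) (s t : (big F).obj.obj (op T)) :
    agree F (res F g s) (res F g t) = g.left.base ⁻¹' agree F s t := by
  ext x
  obtain ⟨Ω, _, _, ξ, hξ⟩ := EtSh.exists_geometric_point x
  have hx : ξ.base default = x := Set.eq_of_mem_singleton (hξ.le ⟨default, rfl⟩)
  let c : Over.mk (ξ ≫ T'.hom) ≅ Over.mk ((ξ ≫ g.left) ≫ T.hom) :=
    Over.isoMk (Iso.refl _) (by simp)
  have hc : c.hom ≫ pointHom (ξ ≫ g.left) = pointHom ξ ≫ g := Over.OverMorphism.ext (by simp [c])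
  constructor
  · intro h
    have e := point_eq_of_mem_agree F ξ _ _ (hx.symm ▸ h)
    rw [res_res, res_res, ← hc, ← res_res, ← res_res] at e
    have e' := congrArg (res F c.inv) e
    simp only [res_res, Iso.inv_hom_id_assoc] at e'
    have := mem_agree_of_point F (ξ ≫ g.left) s t e'
    exact hx ▸ this
  · intro h
    have e := point_eq_of_mem_agree F (ξ ≫ g.left) s t (show g.left.base (ξ.base default) ∈ _ from hx.symm ▸ h)
    have e' := congrArg (res F c.hom) e
    rw [res_res, res_res, hc, ← res_res, ← res_res] at e'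
    exact hx ▸ mem_agree_of_point F ξ _ _ e'

lemma agree_self {T : Over S} (s : (big F).obj.obj (op T)) : agree F s s = Set.univ :=
  Set.eq_univ_of_forall fun x => ⟨EtCoh.top T.left, x, rfl, rfl⟩

/-- the inverse of the whole space as an etale scheme over it -/
def embInv (T : Over S) : T ⟶ (Over.map T.hom).obj ((EtFppf.a T.left).obj (EtCoh.top T.left)) :=
  Over.homMk (𝟙 T.left) (by simp [EtFppf.a, EtCoh.top, Scheme.Etale.mk])

lemma embInv_emb (T : Over S) : embInv T ≫ emb T (EtCoh.top T.left) = 𝟙 T :=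
  Over.OverMorphism.ext (Category.id_comp _)

theorem eq_of_agree_univ {T : Over S} {s t : (big F).obj.obj (op T)} (h : agree F s t = Set.univ) : s = t := by
  let G := (EtCoh.pull T.hom).obj F
  let i := iF F T.hom
  suffices res F (emb T (EtCoh.top T.left)) s = res F (emb T (EtCoh.top T.left)) t by
    have := congrArg (res F (embInv T)) this
    rwa [res_res, res_res, embInv_emb, res_id, res_id] at this
  apply ((ConcreteCategory.isIso_iff_bijective (i.hom.hom.app (op (EtCoh.top T.left)))).1 inferInstance).1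
  refine EtSh.sect_ext G fun x => ?_
  obtain ⟨U, u, hu, e⟩ := h.ge (Set.mem_univ x)
  let g : U ⟶ EtCoh.top T.left := MorphismProperty.Over.homMk U.hom (Category.comp_id _)
  refine ⟨U, g, u, hu, ?_⟩
  refine ((NatTrans.naturality_apply i.hom.hom g.op _).symm).trans (Eq.trans ?_ (NatTrans.naturality_apply i.hom.hom g.op _))
  refine congrArg (i.hom.hom.app (op U)) ?_
  show res F ((Over.map T.hom).map ((EtFppf.a T.left).map g)) (res F (emb T (EtCoh.top T.left)) s) =
    res F ((Over.map T.hom).map ((EtFppf.a T.left).map g)) (res F (emb T (EtCoh.top T.left)) t)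
  rw [res_res, res_res, map_emb, e]

variable {T : Over S} {κ : Type w} {W : κ → Over S} (c : ∀ k, W k ⟶ T)

/-- the product of an object over `T` with a member of the family -/
abbrev pb {Y : Over S} (g : Y ⟶ T) (k : κ) : Over S := Over.mk (pullback.fst g.left (c k).left ≫ Y.hom)

/-- first projection -/
abbrev pb1 {Y : Over S} (g : Y ⟶ T) (k : κ) : pb c g k ⟶ Y := Over.homMk (pullback.fst g.left (c k).left) rfl

/-- second projection -/
abbrev pb2 {Y : Over S} (g : Y ⟶ T) (k : κ) : pb c g k ⟶ W k :=
  Over.homMk (pullback.snd g.left (c k).left) (by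
    show pullback.snd g.left (c k).left ≫ (W k).hom = pullback.fst g.left (c k).left ≫ Y.hom
    rw [← Over.w (c k), ← Over.w g, pullback.condition_assoc])

lemma pb_condition {Y : Over S} (g : Y ⟶ T) (k : κ) : pb1 c g k ≫ g = pb2 c g k ≫ c k :=
  Over.OverMorphism.ext pullback.condition

variable (hc : SchDescent.IsCover (fun k => (c k).left))

include hc in
theorem eq_of_cover {s t : (big F).obj.obj (op T)} (h : ∀ k, res F (c k) s = res F (c k) t) : s = t := by
  refine eq_of_agree_univ F (Set.eq_univ_of_forall fun x => ?_)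
  obtain ⟨k, w, rfl⟩ := SchDescent.exists_mem_range hc x
  show w ∈ (c k).left.base ⁻¹' agree F s t
  rw [← agree_res, h k, agree_self]
  trivial

variable (x : ∀ k, (big F).obj.obj (op (W k)))

/-- a section over an object over `T` which restricts to the given family -/
def Good {Y : Over S} (g : Y ⟶ T) (t : (big F).obj.obj (op Y)) : Prop :=
  ∀ (k : κ) (Z : Over S) (a : Z ⟶ Y) (b : Z ⟶ W k), a ≫ g = b ≫ c k → res F a t = res F b (x k)

lemma Good.restrict {Y Y' : Over S} {g : Y ⟶ T} {t : (big F).obj.obj (op Y)} (h : Good F c x g t) (m : Y' ⟶ Y) :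
    Good F c x (m ≫ g) (res F m t) := fun k Z a b e => by
  rw [res_res]
  exact h k Z (a ≫ m) b (by rw [Category.assoc, e])

include hc in
lemma Good.unique {Y : Over S} {g : Y ⟶ T} {t t' : (big F).obj.obj (op Y)} (h : Good F c x g t)
    (h' : Good F c x g t') : t = t' :=
  eq_of_cover F (fun k => pb1 c g k) (SchDescent.isCover_pullback hc g.left) fun k =>
    (h k _ _ (pb2 c g k) (pb_condition c g k)).trans (h' k _ _ (pb2 c g k) (pb_condition c g k)).symm

variable (hx : ∀ (k k' : κ) (Z : Over S) (a : Z ⟶ W k) (b : Z ⟶ W k'), a ≫ c k = b ≫ c k' →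
  res F a (x k) = res F b (x k'))

include hc hx in
/-- near every point the family comes from an etale neighbourhood -/
theorem exists_good (y : T.left) : ∃ (U : T.left.Etale) (u : U.left) (t : _),
    U.hom.base u = y ∧ Good F c x (emb T U) t := by
  obtain ⟨k₀, w, hw⟩ := SchDescent.exists_mem_range hc y
  obtain ⟨Ω, _, _, ξ, hξ⟩ := EtSh.exists_geometric_point w
  have hxw : ξ.base default = w := Set.eq_of_mem_singleton (hξ.le ⟨default, rfl⟩)
  obtain ⟨V, a, r, -, hv⟩ := loc_rep F ξ (x k₀)
  let U : T.left.Etale := (EtCoh.bc T.hom).obj V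
  let Y : Over S := (Over.map T.hom).obj ((EtFppf.a T.left).obj U)
  let t : (big F).obj.obj (op Y) := res F (projHom T.hom V) (un F r)
  let g : Y ⟶ T := emb T U
  have wv : a.left ≫ V.hom = (ξ ≫ (c k₀).left) ≫ T.hom :=
    (Over.w a).trans ((congrArg (ξ ≫ ·) (Over.w (c k₀)).symm).trans (Category.assoc _ _ _).symm)
  let v : Spec (CommRingCat.of Ω) ⟶ U.left := pullback.lift a.left (ξ ≫ (c k₀).left) wv
  have hvU : v ≫ g.left = ξ ≫ (c k₀).left := pullback.lift_snd _ _ _
  let p : Spec (CommRingCat.of Ω) ⟶ (pb c g k₀).left := pullback.lift v ξ hvU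
  let A : ∀ k, Set (pb c g k).left := fun k => agree F (res F (pb1 c g k) t) (res F (pb2 c g k) (x k))
  have hp : p.base default ∈ A k₀ := by
    refine mem_agree_of_point F p _ _ ?_
    rw [res_res, res_res]
    let e : Over.mk (p ≫ (pb c g k₀).hom) ⟶ Over.mk (ξ ≫ (W k₀).hom) :=
      Over.homMk (𝟙 _) (by
        show 𝟙 _ ≫ ξ ≫ (W k₀).hom = p ≫ (pb c g k₀).hom
        rw [Category.id_comp, ← Over.w (pb2 c g k₀)]
        exact ((Category.assoc _ _ _).symm.trans (congrArg (· ≫ (W k₀).hom) (pullback.lift_snd _ _ _))).symm)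
    have e1 : pointHom p ≫ pb2 c g k₀ = e ≫ pointHom ξ :=
      Over.OverMorphism.ext ((pullback.lift_snd _ _ _).trans (Category.id_comp _).symm)
    have e2 : pointHom p ≫ pb1 c g k₀ ≫ projHom T.hom V =
        e ≫ (Over.homMk a.left (by exact Over.w a) : Over.mk (ξ ≫ (W k₀).hom) ⟶ (EtFppf.a S).obj V) := by
      refine Over.OverMorphism.ext ?_
      show p ≫ pullback.fst g.left (c k₀).left ≫ pullback.fst V.hom T.hom = 𝟙 _ ≫ a.left
      rw [← Category.assoc, pullback.lift_fst, pullback.lift_fst, Category.id_comp]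
    rw [res_res, Category.assoc, e2, e1, ← res_res, ← res_res, hv]
  have hU := SchDescent.isCover_pullback hc g.left
  have key : ∀ k k' (q : (pb c g k).left) (q' : (pb c g k').left),
      (pb1 c g k).left.base q = (pb1 c g k').left.base q' → q ∈ A k → q' ∈ A k' := by
    intro k k' q q' hq hA
    obtain ⟨z, hz, hz'⟩ := Scheme.Pullback.exists_preimage_pullback
      (f := (pb1 c g k).left) (g := (pb1 c g k').left) q q' hq
    let Z : Over S := Over.mk (pullback.fst (pb1 c g k).left (pb1 c g k').left ≫ (pb c g k).hom)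
    let m : Z ⟶ pb c g k := Over.homMk (pullback.fst (pb1 c g k).left (pb1 c g k').left) rfl
    let m' : Z ⟶ pb c g k' := Over.homMk (pullback.snd (pb1 c g k).left (pb1 c g k').left) (by
      show _ = pullback.fst (pb1 c g k).left (pb1 c g k').left ≫ (pb c g k).hom
      rw [← Over.w (pb1 c g k), ← Over.w (pb1 c g k'), pullback.condition_assoc])
    have hm : m ≫ pb1 c g k = m' ≫ pb1 c g k' := Over.OverMorphism.ext pullback.condition
    have h1 : z ∈ agree F (res F m (res F (pb1 c g k) t)) (res F m (res F (pb2 c g k) (x k))) := by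
      rw [agree_res]; exact (congrArg (· ∈ A k) hz).mpr hA
    have h2 : res F m (res F (pb2 c g k) (x k)) = res F m' (res F (pb2 c g k') (x k')) := by
      rw [res_res, res_res]
      refine hx k k' Z _ _ ?_
      rw [Category.assoc, Category.assoc, ← pb_condition, ← pb_condition, reassoc_of% hm]
    have h3 : z ∈ agree F (res F m' (res F (pb1 c g k') t)) (res F m' (res F (pb2 c g k') (x k'))) := by
      rw [h2] at h1
      rw [res_res, ← hm, ← res_res]
      exact h1
    rw [agree_res] at h3
    exact (congrArg (· ∈ A k') hz').mp h3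
  let B : Set U.left := {b | ∀ k (q : (pb c g k).left), (pb1 c g k).left.base q = b → q ∈ A k}
  have hB : ∀ k, (pb1 c g k).left.base ⁻¹' B = A k := fun k =>
    Set.ext fun q => ⟨fun h => h k q rfl, fun h k' q' hq => key k k' q q' hq.symm h⟩
  have hBo : IsOpen B := SchDescent.isOpen_of_preimage hU fun k => by
    exact (congrArg IsOpen (hB k)).mpr (isOpen_agree F _ _)
  have huB : v.base default ∈ B := fun k q hq => key k₀ k (p.base default) q (by
    rw [hq]
    exact congrArg (fun m : Spec (CommRingCat.of Ω) ⟶ U.left => m.base default) (pullback.lift_fst _ _ _)) hp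
  let O : U.left.Opens := ⟨B, hBo⟩
  let U' : T.left.Etale := MorphismProperty.Over.mk ⊤ (O.ι ≫ U.hom)
    (MorphismProperty.comp_mem EtCoh.etaleMP _ _ (show Etale O.ι from inferInstance) U.prop)
  let j : U' ⟶ U := MorphismProperty.Over.homMk O.ι rfl
  let Y' : Over S := (Over.map T.hom).obj ((EtFppf.a T.left).obj U')
  let jm : Y' ⟶ Y := (Over.map T.hom).map ((EtFppf.a T.left).map j)
  refine ⟨U', ⟨v.base default, huB⟩, res F jm t, ?_, ?_⟩
  · show (v ≫ U.hom).base default = y
    rw [show v ≫ U.hom = ξ ≫ (c k₀).left from hvU, ← hw, ← hxw]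
    rfl
  · intro k Z a b e
    rw [res_res]
    have e' : (a ≫ jm) ≫ g = b ≫ c k := by
      rw [Category.assoc, map_emb, e]
    let l : Z ⟶ pb c g k := Over.homMk (pullback.lift (a ≫ jm).left b.left (congrArg Over.Hom.left e')) (by
      show pullback.lift _ _ _ ≫ pullback.fst g.left (c k).left ≫ Y.hom = Z.hom
      rw [pullback.lift_fst_assoc, Over.w (a ≫ jm)])
    have l1 : l ≫ pb1 c g k = a ≫ jm := Over.OverMorphism.ext (pullback.lift_fst _ _ _)
    have l2 : l ≫ pb2 c g k = b := Over.OverMorphism.ext (pullback.lift_snd _ _ _)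
    rw [← l1, ← l2, ← res_res, ← res_res]
    refine eq_of_agree_univ F (Set.eq_univ_of_forall fun z => ?_)
    rw [agree_res]
    show l.left.base z ∈ A k
    rw [← hB k]
    show (l ≫ pb1 c g k).left.base z ∈ B
    rw [l1]
    exact (a.left.base z).2

include hc hx in
theorem exists_glue : ∃ s : (big F).obj.obj (op T), ∀ k, res F (c k) s = x k := by
  classical
  let Gsh := (BigSite.resEtAlong ét T.hom).obj (big F)
  let R : Sieve (EtCoh.top T.left) :=
    { arrows := fun V _ => ∃ t, Good F c x (emb T V) t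
      downward_closed := fun {V V'} _ ⟨t, ht⟩ m => ⟨_, map_emb T m ▸ ht.restrict F c x ((Over.map T.hom).map ((EtFppf.a T.left).map m))⟩ }
  have hR : R ∈ T.left.smallEtaleTopology (EtCoh.top T.left) := (EtSh.mem_topology_iff R).2 fun y => by
    obtain ⟨U, u, t, hu, ht⟩ := exists_good F c hc x hx y
    exact ⟨U, MorphismProperty.Over.homMk U.hom (Category.comp_id _), u, ⟨t, ht⟩, hu⟩
  let fam : Presieve.FamilyOfElements (Gsh.obj ⋙ forget AddCommGrpCat.{u + 1}) R.arrows := fun V g hg => hg.choose
  have hfam : fam.Compatible := fun Z₁ Z₂ Z g₁ g₂ h₁ h₂ i₁ i₂ _ => by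
    have a₁ := map_emb T g₁ ▸ i₁.choose_spec.restrict F c x ((Over.map T.hom).map ((EtFppf.a T.left).map g₁))
    have a₂ := map_emb T g₂ ▸ i₂.choose_spec.restrict F c x ((Over.map T.hom).map ((EtFppf.a T.left).map g₂))
    exact a₁.unique F c hc x a₂
  have hs := ((isSheaf_iff_isSheaf_of_type _ _).1
    ((sheafCompose _ (forget AddCommGrpCat.{u + 1})).obj Gsh).property) R hR
  let s₀ := hs.amalgamate fam hfam
  refine ⟨res F (embInv T) s₀, fun k => eq_of_agree_univ F (Set.eq_univ_of_forall fun y => ?_)⟩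
  obtain ⟨U, u, t, hu, ht⟩ := exists_good F c hc x hx ((c k).left.base y)
  let Q : (W k).left.Etale := (EtCoh.bc (c k).left).obj U
  obtain ⟨z, hz1, hz2⟩ := Scheme.Pullback.exists_preimage_pullback (f := U.hom) (g := (c k).left) u y hu
  refine ⟨Q, z, hz2, ?_⟩
  let g₀ : U ⟶ EtCoh.top T.left := MorphismProperty.Over.homMk U.hom (Category.comp_id _)
  have hg₀ : R g₀ := ⟨t, ht⟩
  have e1 : res F ((Over.map T.hom).map ((EtFppf.a T.left).map g₀)) s₀ = t :=
    (hs.valid_glue hfam g₀ hg₀).trans (hg₀.choose_spec.unique F c hc x ht)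
  let q : (Over.map (W k).hom).obj ((EtFppf.a (W k).left).obj Q) ⟶ (Over.map T.hom).obj ((EtFppf.a T.left).obj U) :=
    Over.homMk (pullback.fst U.hom (c k).left) (by
      show pullback.fst U.hom (c k).left ≫ U.hom ≫ T.hom = pullback.snd U.hom (c k).left ≫ (W k).hom
      rw [pullback.condition_assoc, Over.w (c k)])
  have hq : emb (W k) Q ≫ c k = q ≫ emb T U := Over.OverMorphism.ext pullback.condition.symm
  have hq' : emb (W k) Q ≫ c k ≫ embInv T = q ≫ (Over.map T.hom).map ((EtFppf.a T.left).map g₀) := by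
    refine Over.OverMorphism.ext ?_
    show pullback.snd U.hom (c k).left ≫ (c k).left ≫ 𝟙 _ = pullback.fst U.hom (c k).left ≫ U.hom
    rw [Category.comp_id, pullback.condition]
  rw [res_res, res_res, Category.assoc] at *
  rw [hq', ← res_res, e1]
  exact ht k _ q (emb (W k) Q) hq.symm


/-- The pullback to the big etale site is an fpqc sheaf. -/
theorem isSheaf_fpqc : Presheaf.IsSheaf (QuotSh.J Scheme.fpqcPrecoverage S) (big F).obj := by
  rw [Presheaf.isSheaf_iff_isSheaf_forget _ _ (forget AddCommGrpCat.{u + 1}), isSheaf_iff_isSheaf_of_type]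
  intro T R hR
  rw [GrothendieckTopology.mem_over_iff] at hR
  obtain ⟨R', hR', hle⟩ := (Precoverage.mem_toGrothendieck_iff_of_isStableUnderComposition
    (J := Scheme.fpqcPrecoverage)).1 hR
  let κ := Σ Z : Scheme.{u}, {g : Z ⟶ T.left // R' g}
  let W : κ → Over S := fun k => Over.mk (k.2.1 ≫ T.hom)
  let c : ∀ k, W k ⟶ T := fun k => Over.homMk k.2.1 rfl
  have hc : SchDescent.IsCover (fun k => (c k).left) := by
    have : Presieve.ofArrows (fun k => (W k).left) (fun k => (c k).left) = R' := by
      funext Z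
      ext g
      refine ⟨?_, fun h => ?_⟩
      · rintro ⟨k⟩; exact k.2.2
      · exact Presieve.ofArrows.mk (⟨Z, g, h⟩ : κ)
    show Presieve.ofArrows _ _ ∈ Scheme.fpqcPrecoverage T.left
    rw [this]; exact hR'
  have hRc : ∀ k, R (c k) := fun k => (Sieve.overEquiv_iff R k.2.1).1 (hle _ _ k.2.2)
  intro x hx
  have compat : ∀ {A B Z : Over S} {g : A ⟶ T} {g' : B ⟶ T} (a : Z ⟶ A) (b : Z ⟶ B) (hg : R g) (hg' : R g'),
      a ≫ g = b ≫ g' → res F a (x g hg) = res F b (x g' hg') := fun a b hg hg' e => hx a b hg hg' e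
  obtain ⟨s, hs⟩ := exists_glue F c hc (fun k => x (c k) (hRc k))
    (fun k k' Z a b e => compat a b (hRc k) (hRc k') e)
  refine ⟨s, fun Y g hg => ?_, fun t ht => eq_of_cover F c hc fun k => (ht (c k) (hRc k)).trans (hs k).symm⟩
  refine eq_of_cover F (fun k => pb1 c g k) (SchDescent.isCover_pullback hc g.left) fun k => ?_
  show res F (pb1 c g k) (res F g s) = res F (pb1 c g k) (x g hg)
  rw [res_res, pb_condition, ← res_res, hs]
  exact compat _ _ (hRc k) hg (pb_condition c g k).symm

end Groth.Agent.BigEt
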