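import Groth.Agent.BigEt.BaseChange
import Groth.Agent.EtSh.Pull
import Groth.Agent.EtSh.Supp

/-! # Sections of the pullback to the big etale site -/

set_option autoImplicit false
set_option linter.all false
set_option backward.isDefEq.respectTransparency false
set_option backward.defeqAttrib.useBackward true

noncomputable section

universe u

open CategoryTheory CategoryTheory.Limits AlgebraicGeometry Opposite

namespace Groth.Agent.BigEt

local notation "ét" => Scheme.etalePrecoverage

variable {S T : Scheme.{u}} (F : EtCoh.Ab S)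

/-- the inverse image on the big site -/
abbrev big : BigSite.Ab ét S := (BigSite.piEtPull ét S).obj F

/-- the tautological sections -/
abbrev un {V : S.Etale} (r : EtCoh.sect F V) : (big F).obj.obj (op ((EtFppf.a S).obj V)) :=
  ((BigSite.piEtAdj ét S).unit.app F).hom.app (op V) r

variable (f : T ⟶ S)

/-- the projection of a base change -/
def projHom (V : S.Etale) : (Over.map f).obj ((EtFppf.a T).obj ((EtCoh.bc f).obj V)) ⟶ (EtFppf.a S).obj V :=
  Over.homMk (pullback.fst V.hom f) pullback.condition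

/-- the restriction to a small site is the inverse image -/
def iF : (BigSite.resEtAlong ét f).obj (big F) ≅ (EtCoh.pull f).obj F :=
  haveI := isIso_unit_ab T ((EtCoh.pull f).obj F)
  (BigSite.resEt ét T).mapIso ((pullCompIso f).app F) ≪≫ (asIso ((BigSite.piEtAdj ét T).unit.app _)).symm

theorem iF_proj (V : S.Etale) (r : EtCoh.sect F V) :
    (iF F f).hom.hom.app (op ((EtCoh.bc f).obj V)) ((big F).obj.map (projHom f V).op (un F r)) =
      ((EtCoh.pullPushAdj f).unit.app F).hom.app (op V) r := by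
  haveI := isIso_unit_ab T ((EtCoh.pull f).obj F)
  have h := Adjunction.unit_leftAdjointUniq_hom_app
    ((BigSite.piEtAdj ét S).comp (BigSite.bigAdj ét f AddCommGrpCat.{u + 1}))
    (((EtCoh.pullPushAdj f).comp (BigSite.piEtAdj ét T)).ofNatIsoRight (pushResIso f).symm) F
  have h' := ConcreteCategory.congr_hom (congrArg (fun m => m.hom.app (op V)) h) r
  simp [pushResIso, pushIso] at h'
  apply ((ConcreteCategory.isIso_iff_bijective
    ((asIso ((BigSite.piEtAdj ét T).unit.app ((EtCoh.pull f).obj F))).hom.hom.app (op ((EtCoh.bc f).obj V)))).1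
      inferInstance).1
  simp [iF, projHom]
  exact h'.trans (ConcreteCategory.congr_hom (((BigSite.piEtPull ét T).obj ((EtCoh.pull f).obj F)).obj.map_id _) _)


section Points

/-- restriction -/
abbrev res {A B : Over S} (g : A ⟶ B) (s : (big F).obj.obj (op B)) : (big F).obj.obj (op A) :=
  (big F).obj.map g.op s

lemma res_res {A B C : Over S} (g : A ⟶ B) (h : B ⟶ C) (s : (big F).obj.obj (op C)) :
    res F g (res F h s) = res F (g ≫ h) s :=
  (ConcreteCategory.congr_hom ((big F).obj.map_comp h.op g.op) s).symm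

lemma res_id {A : Over S} (s : (big F).obj.obj (op A)) : res F (𝟙 A) s = s :=
  ConcreteCategory.congr_hom ((big F).obj.map_id (op A)) s

/-- an etale scheme over `T` as an object over `T` -/
def emb (T : Over S) (U : T.left.Etale) : (Over.map T.hom).obj ((EtFppf.a T.left).obj U) ⟶ T :=
  Over.homMk U.hom rfl

lemma map_emb (T : Over S) {U V : T.left.Etale} (g : U ⟶ V) :
    (Over.map T.hom).map ((EtFppf.a T.left).map g) ≫ emb T V = emb T U :=
  Over.OverMorphism.ext (MorphismProperty.Over.w g)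

variable {Ω : Type u} [Field Ω] [IsSepClosed Ω]

/-- a geometric point as an object over `S` -/
abbrev pointHom {T : Over S} (ξ : Spec (CommRingCat.of Ω) ⟶ T.left) : Over.mk (ξ ≫ T.hom) ⟶ T :=
  Over.homMk ξ rfl

lemma germ_eq_of_res_eq_aux (η η₀ : Spec (CommRingCat.of Ω) ⟶ S) (h : η₀ = 𝟙 _ ≫ η) {V V' : S.Etale}
    (a : EtSh.Fib η₀ V) (a' : EtSh.Fib η₀ V') (r : EtCoh.sect F V) (r' : EtCoh.sect F V')
    (e : res F (Over.homMk a.left (by exact (Over.w a).trans (h.trans (Category.id_comp η))) :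
          Over.mk η ⟶ (EtFppf.a S).obj V) (un F r) =
      res F (Over.homMk a'.left (by exact (Over.w a').trans (h.trans (Category.id_comp η))) :
          Over.mk η ⟶ (EtFppf.a S).obj V') (un F r')) :
    EtSh.germ η₀ F a r = EtSh.germ η₀ F a' r' := by
  subst h
  let P₀ := Spec (CommRingCat.of Ω)
  let top₀ : EtSh.Fib (𝟙 P₀) (EtCoh.top P₀) := Over.homMk (𝟙 P₀) (Category.comp_id _)
  have key : ∀ {V : S.Etale} (a : EtSh.Fib (𝟙 P₀ ≫ η) V) (r : EtCoh.sect F V),
      (EtSh.stalkPullIso η (𝟙 P₀)).inv.app F (EtSh.germ _ F a r) =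
        EtSh.germ (𝟙 P₀) _ top₀ ((iF F η).hom.hom.app (op (EtCoh.top P₀))
          (res F (emb (Over.mk η) (EtCoh.top P₀) ≫ (Over.homMk a.left (by exact (Over.w a).trans (Category.id_comp η)) :
            Over.mk η ⟶ (EtFppf.a S).obj V)) (un F r))) := by
    intro V a r
    let σ : EtCoh.top P₀ ⟶ (EtCoh.bc η).obj V :=
      MorphismProperty.Over.homMk (pullback.lift a.left (𝟙 P₀) (by exact Over.w a)) (pullback.lift_snd _ _ _)
    have hσ : (Over.map η).map ((EtFppf.a P₀).map σ) ≫ projHom η V =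
        emb (Over.mk η) (EtCoh.top P₀) ≫ (Over.homMk a.left (by exact (Over.w a).trans (Category.id_comp η)) :
            Over.mk η ⟶ (EtFppf.a S).obj V) :=
      Over.OverMorphism.ext ((pullback.lift_fst _ _ _).trans (Category.id_comp _).symm)
    rw [EtSh.stalkPullIso_inv_germ, ← hσ, ← res_res]
    have hn := NatTrans.naturality_apply (iF F η).hom.hom σ.op (res F (projHom η V) (un F r))
    refine Eq.trans ?_ (congrArg (EtSh.germ (𝟙 P₀) _ top₀) hn).symm
    refine Eq.trans ?_ (congrArg (fun z => EtSh.germ (𝟙 P₀) _ top₀ (((EtCoh.pull η).obj F).obj.map σ.op z)) (iF_proj F η V r)).symm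
    refine Eq.trans ?_ (EtSh.germ_map _ σ top₀ _).symm
    refine congrArg (fun w => EtSh.germ (𝟙 P₀) _ w _) ?_
    refine Over.OverMorphism.ext ?_
    show pullback.lift a.left (𝟙 P₀) _ = 𝟙 P₀ ≫ pullback.lift a.left (𝟙 P₀) _
    simp
  apply ((ConcreteCategory.isIso_iff_bijective ((EtSh.stalkPullIso η (𝟙 P₀)).inv.app F)).1 inferInstance).1
  rw [key a r, key a' r', ← res_res, ← res_res, e]

theorem germ_eq_of_res_eq (η : Spec (CommRingCat.of Ω) ⟶ S) {V V' : S.Etale} (a : EtSh.Fib η V)
    (a' : EtSh.Fib η V') (r : EtCoh.sect F V) (r' : EtCoh.sect F V')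
    (e : res F (Over.homMk a.left (by exact Over.w a) : Over.mk η ⟶ (EtFppf.a S).obj V) (un F r) =
      res F (Over.homMk a'.left (by exact Over.w a') : Over.mk η ⟶ (EtFppf.a S).obj V') (un F r')) :
    EtSh.germ η F a r = EtSh.germ η F a' r' :=
  germ_eq_of_res_eq_aux F η η (Category.id_comp η).symm a a' r r' e

/-- near a geometric point, every section comes from the small site of the base -/
theorem loc_rep {T : Over S} (ξ : Spec (CommRingCat.of Ω) ⟶ T.left) (s : (big F).obj.obj (op T)) :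
    ∃ (V : S.Etale) (a : EtSh.Fib (ξ ≫ T.hom) V) (r : EtCoh.sect F V),
      EtSh.germ ξ _ (Over.homMk ξ (Category.comp_id _) : EtSh.Fib ξ (EtCoh.top T.left))
          ((iF F T.hom).hom.hom.app (op (EtCoh.top T.left)) (res F (emb T (EtCoh.top T.left)) s)) =
        (EtSh.stalkPullIso T.hom ξ).inv.app F (EtSh.germ _ F a r) ∧
      res F (pointHom ξ) s =
        res F (Over.homMk a.left (by exact Over.w a) : Over.mk (ξ ≫ T.hom) ⟶ (EtFppf.a S).obj V) (un F r) := by
  let G := (EtCoh.pull T.hom).obj F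
  let i := iF F T.hom
  let x₀ : EtSh.Fib ξ (EtCoh.top T.left) := Over.homMk ξ (Category.comp_id _)
  let g₀ := EtSh.germ ξ G x₀ (i.hom.hom.app (op (EtCoh.top T.left)) (res F (emb T (EtCoh.top T.left)) s))
  obtain ⟨p, hp⟩ := ((ConcreteCategory.isIso_iff_bijective ((EtSh.stalkPullIso T.hom ξ).inv.app F)).1 inferInstance).2 g₀
  obtain ⟨V, a, r, rfl⟩ := EtSh.germ_surjective F p
  refine ⟨V, a, r, hp.symm, ?_⟩
  rw [EtSh.stalkPullIso_inv_germ] at hp
  let y := (EtSh.fibBC T.hom ξ).inv.app V a
  obtain ⟨⟨W, w⟩, ⟨g, hg⟩, ⟨k, hk⟩, -⟩ :=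
    IsCofilteredOrEmpty.cone_objs (Functor.elementsMk (Scheme.pointSmallEtale ξ).fiber (EtCoh.top T.left) x₀)
      (Functor.elementsMk (Scheme.pointSmallEtale ξ).fiber ((EtCoh.bc T.hom).obj V) y)
  have hW : EtSh.germ ξ G w (G.obj.map g.op (i.hom.hom.app (op (EtCoh.top T.left)) (res F (emb T (EtCoh.top T.left)) s))) =
      EtSh.germ ξ G w (G.obj.map k.op (i.hom.hom.app (op ((EtCoh.bc T.hom).obj V)) (res F (projHom T.hom V) (un F r)))) := by
    rw [EtSh.germ_map, EtSh.germ_map]
    refine Eq.trans ?_ (congrArg (EtSh.germ ξ G _) (iF_proj F T.hom V r)).symm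
    exact ((congrArg (fun z => EtSh.germ ξ G z _) hg).trans (hp.symm.trans (congrArg (fun z => EtSh.germ ξ G z _) hk.symm)))
  obtain ⟨W', l, w', hl, hh⟩ := (EtSh.germ_eq_iff G w _ _).1 hW
  obtain ⟨v, hv⟩ := EtSh.exists_fib_map l w' w hl
  have key : ∀ {U : T.left.Etale} (m : W' ⟶ U) (z : (big F).obj.obj (op ((Over.map T.hom).obj ((EtFppf.a T.left).obj U)))),
      G.obj.map m.op (i.hom.hom.app (op U) z) =
        i.hom.hom.app (op W') (res F ((Over.map T.hom).map ((EtFppf.a T.left).map m)) z) :=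
    fun m z => (NatTrans.naturality_apply i.hom.hom m.op z).symm
  have e1 : i.hom.hom.app (op W') (res F ((Over.map T.hom).map ((EtFppf.a T.left).map (l ≫ g))) (res F (emb T (EtCoh.top T.left)) s)) =
      i.hom.hom.app (op W') (res F ((Over.map T.hom).map ((EtFppf.a T.left).map (l ≫ k))) (res F (projHom T.hom V) (un F r))) := by
    rw [← key, ← key, op_comp, G.obj.map_comp, op_comp, G.obj.map_comp]
    exact hh
  have e2 := ((ConcreteCategory.isIso_iff_bijective (i.hom.hom.app (op W'))).1 inferInstance).1 e1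
  rw [res_res, res_res, map_emb] at e2
  have hv' : v.left ≫ W'.hom = ξ := Over.w v
  let pv : Over.mk (ξ ≫ T.hom) ⟶ (Over.map T.hom).obj ((EtFppf.a T.left).obj W') :=
    Over.homMk v.left (by exact (Category.assoc _ _ _).symm.trans (congrArg (· ≫ T.hom) hv'))
  have e3 := congrArg (res F pv) e2
  rw [res_res, res_res] at e3
  refine Eq.trans ?_ (e3.trans ?_)
  · exact congrArg (fun q => res F q s) (Over.OverMorphism.ext hv'.symm)
  · refine congrArg (fun q => res F q (un F r)) (Over.OverMorphism.ext ?_)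
    have hky : v.left ≫ (l ≫ k).left = y.left := by
      have := congrArg Over.Hom.left ((congrArg ((Scheme.pointSmallEtale ξ).fiber.map k) hv).trans hk)
      exact (Category.assoc _ _ _).symm.trans this
    show v.left ≫ (l ≫ k).left ≫ pullback.fst V.hom T.hom = a.left
    rw [← Category.assoc, hky]
    exact pullback.lift_fst _ _ _

/-- the locus where two sections agree -/
def agree {T : Over S} (s t : (big F).obj.obj (op T)) : Set T.left :=
  {x | ∃ (U : T.left.Etale) (u : U.left), U.hom.base u = x ∧ res F (emb T U) s = res F (emb T U) t}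

lemma isOpen_agree {T : Over S} (s t : (big F).obj.obj (op T)) : IsOpen (agree F s t) := by
  rw [isOpen_iff_forall_mem_open]
  rintro _ ⟨U, u, rfl, hu⟩
  haveI : Etale U.hom := U.prop
  exact ⟨Set.range U.hom.base, fun _ ⟨v, hv⟩ => ⟨U, v, hv, hu⟩, U.hom.isOpenMap.isOpen_range, ⟨u, rfl⟩⟩

/-- agreement at a geometric point -/
theorem mem_agree_of_point {T : Over S} (ξ : Spec (CommRingCat.of Ω) ⟶ T.left)
    (s t : (big F).obj.obj (op T)) (h : res F (pointHom ξ) s = res F (pointHom ξ) t) :
    ξ.base default ∈ agree F s t := by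
  obtain ⟨V, a, r, hg, hv⟩ := loc_rep F ξ s
  obtain ⟨V', a', r', hg', hv'⟩ := loc_rep F ξ t
  have e := germ_eq_of_res_eq F (ξ ≫ T.hom) a a' r r' (hv.symm.trans (h.trans hv'))
  obtain ⟨W, g, w, hw, hh⟩ := (EtSh.germ_eq_iff _ _ _ _).1
    (hg.trans ((congrArg ((EtSh.stalkPullIso T.hom ξ).inv.app F) e).trans hg'.symm))
  let i := iF F T.hom
  have key : ∀ z, ((EtCoh.pull T.hom).obj F).obj.map g.op (i.hom.hom.app (op (EtCoh.top T.left)) z) =
      i.hom.hom.app (op W) (res F ((Over.map T.hom).map ((EtFppf.a T.left).map g)) z) :=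
    fun z => (NatTrans.naturality_apply i.hom.hom g.op z).symm
  rw [key, key] at hh
  have e2 := ((ConcreteCategory.isIso_iff_bijective (i.hom.hom.app (op W))).1 inferInstance).1 hh
  rw [res_res, res_res, map_emb] at e2
  refine ⟨W, w, ?_, e2⟩
  have hgw : g.left ≫ 𝟙 _ = W.hom := MorphismProperty.Over.w g
  rw [← hgw, Category.comp_id]
  exact hw

/-- values at geometric points of points of agreement agree -/
theorem point_eq_of_mem_agree {T : Over S} (ξ : Spec (CommRingCat.of Ω) ⟶ T.left)
    (s t : (big F).obj.obj (op T)) (h : ξ.base default ∈ agree F s t) :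
    res F (pointHom ξ) s = res F (pointHom ξ) t := by
  obtain ⟨U, u, hu, e⟩ := h
  obtain ⟨v, -⟩ := EtSh.exists_fib (ξ := ξ) u hu
  let pv : Over.mk (ξ ≫ T.hom) ⟶ (Over.map T.hom).obj ((EtFppf.a T.left).obj U) :=
    Over.homMk v.left (by exact (Category.assoc _ _ _).symm.trans (congrArg (· ≫ T.hom) (Over.w v)))
  have hp : pv ≫ emb T U = pointHom ξ := Over.OverMorphism.ext (Over.w v)
  rw [← hp, ← res_res, ← res_res, e]

end Points

end Groth.Agent.BigEt
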